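import Cfsg.Agent.Fus.EssentialElemCube.GroupCases

/-!
The subgroups `⟨a⟩γ_j` for an element `a` of order `p` of the last two-step centraliser outside the first.
-/

set_option autoImplicit false

open scoped commutatorElement

namespace CfsgLib.Fus.EssentialElemCube

open CfsgLib.PGroup.MaxClass

/-- `⟨a⟩γ_j`. -/
def lineAt {G : Type*} [Group G] (a : G) (j : ℕ) : Subgroup G := Subgroup.zpowers a ⊔ gam G j

variable {G : Type*} [Group G] {p n : ℕ}

theorem mem_lineAt_self (a : G) (j : ℕ) : a ∈ lineAt a j :=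
  Subgroup.mem_sup_left (Subgroup.mem_zpowers a)

theorem gam_le_lineAt (a : G) (j : ℕ) : gam G j ≤ lineAt a j := le_sup_right

theorem mem_lineAt {a u : G} {j : ℕ} (hu : u ∈ lineAt a j) :
    ∃ k : ℤ, ∃ v ∈ gam G j, a ^ k * v = u := by
  rw [lineAt, Subgroup.mem_sup_of_normal_right] at hu
  obtain ⟨b, ⟨k, rfl⟩, v, hv, h⟩ := hu
  exact ⟨k, v, hv, h⟩

/-- The hypotheses on `a`. -/
structure LastElt (p n : ℕ) (a : G) : Prop where
  six_le : 6 ≤ n
  notMem : a ∉ twoStep G 2
  mem : a ∈ twoStep G (n - 2)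
  pow : a ^ p = 1

variable [Finite G] [Fact p.Prime] {a : G}

namespace LastElt

variable (ha : LastElt p n a)
include ha

omit [Finite G] [Fact p.Prime] in
theorem ne_one : a ≠ 1 := fun h => ha.notMem (h ▸ one_mem _)

omit [Finite G] [Fact p.Prime] in
theorem notMem_gam_two : a ∉ gam G 2 := fun h => ha.notMem (gam_two_le_twoStep (by norm_num) h)

theorem self_mem_zpowers {k : ℤ} (hk : a ^ k ≠ 1) : a ∈ Subgroup.zpowers (a ^ k) := by
  have hle : Subgroup.zpowers (a ^ k) ≤ Subgroup.zpowers a := Subgroup.zpowers_le.2 ⟨k, rfl⟩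
  have hpk : (a ^ k) ^ p = 1 := by
    rw [← zpow_natCast, ← zpow_mul, mul_comm, zpow_mul, zpow_natCast, ha.pow, one_zpow]
  rw [Subgroup.eq_of_le_of_card_ge hle (by
    rw [Nat.card_zpowers, Nat.card_zpowers, orderOf_eq_prime ha.pow ha.ne_one,
      orderOf_eq_prime hpk hk])]
  exact Subgroup.mem_zpowers a

theorem zpow_eq_one {k : ℤ} (hk : a ^ k ∈ gam G 2) : a ^ k = 1 := by
  by_contra hne
  exact ha.notMem_gam_two ((Subgroup.zpowers_le.2 hk) (ha.self_mem_zpowers hne))

theorem mem_gam_of_mem_lineAt {j : ℕ} (hj : 2 ≤ j) {u : G} (hu : u ∈ lineAt a j)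
    (hu2 : u ∈ gam G 2) : u ∈ gam G j := by
  obtain ⟨k, v, hv, rfl⟩ := mem_lineAt hu
  have hk : a ^ k ∈ gam G 2 := by
    have := (gam G 2).mul_mem hu2 ((gam G 2).inv_mem (gam_anti hj hv))
    rwa [mul_inv_cancel_right] at this
  rw [ha.zpow_eq_one hk, one_mul]
  exact hv

variable (h : IsMaxCl p G n)
include h

theorem card_lineAt {j : ℕ} (hj : 2 ≤ j) (hjn : j ≤ n) :
    Nat.card (lineAt a j) = p ^ (n - j + 1) := by
  have hp : p.Prime := Fact.out
  refine le_antisymm ((card_sup_le _ _).trans ?_) ?_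
  · rw [Nat.card_zpowers, orderOf_eq_prime ha.pow ha.ne_one, h.card_gam j hj hjn, ← pow_succ']
  · obtain ⟨i, hi⟩ := IsPGroup.iff_card.1 (h.isPGroup.to_subgroup (lineAt a j))
    have hlt : Nat.card (gam G j) < Nat.card (lineAt a j) := lt_of_le_of_ne
      (Subgroup.card_le_of_le (gam_le_lineAt a j)) fun he => ha.notMem_gam_two (gam_anti hj
        ((Subgroup.eq_of_le_of_card_ge (gam_le_lineAt a j) he.ge).ge (mem_lineAt_self a j)))
    rw [h.card_gam j hj hjn, hi, Nat.pow_lt_pow_iff_right hp.one_lt] at hlt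
    rw [hi]
    exact Nat.pow_le_pow_right hp.pos hlt

omit ha in
theorem comm_mem_gam_two (u v : G) : ⁅u, v⁆ ∈ gam G 2 :=
  comm_mem_gam_succ le_rfl (gam_one (G := G) ▸ Subgroup.mem_top u) v

/-- Pulling an element of `γ_2` up along `a`. -/
theorem descend {v : G} (hv : v ∈ gam G 2) {j : ℕ} (hj : j + 1 ≤ n) (hc : ⁅v, a⁆ ∈ gam G j) :
    v ∈ gam G (j - 1) := by
  have key : ∀ i, 2 ≤ i → i + 1 ≤ j → v ∈ gam G i := by
    intro i hi
    induction i, hi using Nat.le_induction with
    | base => exact fun _ => hv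
    | succ i hi ih =>
      intro hij
      by_contra hv'
      refine ha.notMem ?_
      rw [← h.stepsAgree i hi (by omega)]
      refine h.mem_twoStep_of_comm hi (ih (by omega)) hv' ?_
      rw [← commutatorElement_inv]
      exact inv_mem (gam_anti (by omega) hc)
  rcases le_or_gt j 2 with hj2 | hj2
  · exact gam_anti (by omega) hv
  · exact key (j - 1) (by omega) (by omega)

theorem normalizer_lineAt {j : ℕ} (hj : 3 ≤ j) (hjn : j + 1 ≤ n) :
    Subgroup.normalizer (lineAt a j : Set G) = lineAt a (j - 1) := by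
  have h6 := ha.six_le
  refine le_antisymm (fun y hy => ?_) (sup_le
    (Subgroup.zpowers_le.2 (Subgroup.le_normalizer (mem_lineAt_self a j))) fun d hd => ?_)
  swap
  · refine mem_normalizer_of_comm fun u _ => gam_le_lineAt a j ?_
    have := comm_mem_gam_succ (show 1 ≤ j - 1 by omega) hd u
    rwa [show j - 1 + 1 = j by omega] at this
  have hco := CfsgLib.PGroup.isCoatom_of_index_eq (h.index_twoStep (le_refl 2) (by omega))
  have hTn : (twoStep G 2).Normal := CfsgLib.PGroup.normal_of_coatom h.isPGroup hco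
  have htop : Subgroup.zpowers a ⊔ twoStep G 2 = ⊤ := hco.2 _ (lt_of_le_of_ne le_sup_right
    fun he => ha.notMem (he.ge (Subgroup.mem_sup_left (Subgroup.mem_zpowers a))))
  have hyt : y ∈ Subgroup.zpowers a ⊔ twoStep G 2 := htop ▸ Subgroup.mem_top y
  rw [Subgroup.mem_sup_of_normal_right] at hyt
  obtain ⟨b, hb, t, ht, rfl⟩ := hyt
  refine Subgroup.mul_mem _ ((Subgroup.zpowers_le.2 (mem_lineAt_self a _)) hb) (gam_le_lineAt a _ ?_)
  have htn : t ∈ Subgroup.normalizer (lineAt a j : Set G) := by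
    have hbn : b ∈ Subgroup.normalizer (lineAt a j : Set G) :=
      (Subgroup.zpowers_le.2 (Subgroup.le_normalizer (mem_lineAt_self a j))) hb
    have := Subgroup.mul_mem _ (Subgroup.inv_mem _ hbn) hy
    rwa [inv_mul_cancel_left] at this
  have hta : ⁅t, a⁆ ∈ gam G j := by
    refine ha.mem_gam_of_mem_lineAt (by omega) ?_ (comm_mem_gam_two h t a)
    rw [commutatorElement_def]
    exact mul_mem ((Subgroup.mem_normalizer_iff.1 htn a).1 (mem_lineAt_self a j))
      (inv_mem (mem_lineAt_self a j))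
  have ht2 : t ∈ gam G 2 := by
    by_contra ht2
    obtain ⟨x, hx⟩ := h.exists_good
    refine h.comm_notMem_one hx ht ht2 ?_
    let π := QuotientGroup.mk' (gam G (2 + 1))
    have hle : Subgroup.zpowers a ⊔ twoStep G 2 ≤ (Subgroup.centralizer {π t}).comap π := by
      rw [h.eq_of_index (h.index_twoStep le_rfl (by omega)) ht ht2, sup_le_iff, sup_le_iff,
        Subgroup.zpowers_le, Subgroup.zpowers_le]
      refine ⟨?_, ?_, fun z hz => ?_⟩ <;>
        rw [Subgroup.mem_comap, Subgroup.mem_centralizer_singleton_iff]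
      · refine (commutatorElement_eq_one_iff_mul_comm.1 ?_).symm
        rw [← map_commutatorElement]
        exact (QuotientGroup.eq_one_iff _).2 (gam_anti (by omega) hta)
      · exact (mk_central (by norm_num) hz _).eq
    rw [htop] at hle
    have hxc := Subgroup.mem_centralizer_singleton_iff.1 (hle (Subgroup.mem_top x))
    refine (QuotientGroup.eq_one_iff _).1 ?_
    show π ⁅t, x⁆ = 1
    rw [map_commutatorElement, commutatorElement_eq_one_iff_mul_comm]
    exact hxc.symm
  exact ha.descend h ht2 hjn hta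

theorem center_commute {j : ℕ} (hj : 2 ≤ j) {u v : G} (hu : u ∈ gam G (n - 2))
    (hv : v ∈ lineAt a j) : Commute u v := by
  have h6 := ha.six_le
  have hle : lineAt a j ≤ Subgroup.centralizer ({u} : Set G) := by
    refine sup_le (Subgroup.zpowers_le.2 ?_) fun w hw => ?_ <;>
      rw [Subgroup.mem_centralizer_singleton_iff]
    · exact (commute_gam_of_twoStep h ha.mem hu).eq
    · exact (comm_kill h (show 1 ≤ j by omega) (show 1 ≤ n - 2 by omega) (by omega) hw hu).eq
  exact (Subgroup.mem_centralizer_singleton_iff.1 (hle hv)).symm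

theorem moves_gam {y : G} (hy : y ∈ gam G (n - 3)) (hy' : y ∉ gam G (n - 2)) : ⁅y, a⁆ ∉ gam G (n - 1) := by
  have h6 := ha.six_le
  intro hc
  refine ha.notMem ?_
  rw [← h.stepsAgree (n - 3) (by omega) (by omega)]
  refine h.mem_twoStep_of_comm (by omega) hy (by rwa [show n - 3 + 1 = n - 2 by omega]) ?_
  rw [show n - 3 + 2 = n - 1 by omega, ← commutatorElement_inv]
  exact inv_mem hc

/-- An element of `⟨a⟩γ_j` commuting with `γ_(n-3)` lies in `γ_j`. -/
theorem mem_gam_of_commute_layer {j : ℕ} (hj : 3 ≤ j) {u : G} (hu : u ∈ lineAt a j)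
    (hc : ∀ y ∈ gam G (n - 3), Commute u y) : u ∈ gam G j := by
  have h6 := ha.six_le
  obtain ⟨k, v, hv, rfl⟩ := mem_lineAt hu
  obtain ⟨y, hy, hy'⟩ := h.exists_notMem_succ (show 2 ≤ n - 3 by omega) (by omega)
  rw [show n - 3 + 1 = n - 2 by omega] at hy'
  by_cases hk : a ^ k = 1
  · rwa [hk, one_mul]
  exfalso
  have hvy : Commute v y := comm_kill h (show 1 ≤ j by omega) (show 1 ≤ n - 3 by omega) (by omega) hv hy
  have hky : Commute (a ^ k) y := by
    have := (hc y hy).mul_left hvy.inv_left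
    rwa [mul_inv_cancel_right] at this
  obtain ⟨i, hi⟩ := ha.self_mem_zpowers hk
  refine ha.moves_gam h hy hy' ?_
  rw [← show (a ^ k) ^ i = a from hi, commutatorElement_eq_one_iff_commute.2 (hky.zpow_left i).symm]
  exact one_mem _

theorem mem_center_lineAt {j : ℕ} (hj : 2 ≤ j) (hjn : j + 3 ≤ n) {u : lineAt a j}
    (hu : u ∈ Subgroup.center (lineAt a j)) : (u : G) ∈ gam G (n - 2) := by
  have h6 := ha.six_le
  have hc : ∀ v ∈ lineAt a j, Commute (u : G) v := fun v hv =>
    (congrArg Subtype.val (Subgroup.mem_center_iff.1 hu ⟨v, hv⟩)).symm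
  obtain ⟨k, v, hv, huv⟩ := mem_lineAt u.2
  have hva : Commute v a := by
    have h1 := ((Commute.refl a).zpow_left k).inv_left.mul_left (huv ▸ hc a (mem_lineAt_self a j))
    rwa [inv_mul_cancel_left] at h1
  have hv' := mem_gam_of_commute h ha.notMem (gam_anti hj hv) hva
  by_cases hk : a ^ k = 1
  · rw [← huv, hk, one_mul]; exact hv'
  exfalso
  obtain ⟨y, hy, hy'⟩ := h.exists_notMem_succ (show 2 ≤ n - 3 by omega) (by omega)
  rw [show n - 3 + 1 = n - 2 by omega] at hy'
  have hky : Commute (a ^ k) y := by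
    have h1 : Commute (u : G) y := hc y (gam_le_lineAt a j (gam_anti (by omega) hy))
    rw [← huv] at h1
    have h2 := h1.mul_left
      (ha.center_commute h hj hv' (gam_le_lineAt a j (gam_anti (by omega) hy))).inv_left
    rwa [mul_inv_cancel_right] at h2
  obtain ⟨i, hi⟩ := ha.self_mem_zpowers hk
  refine ha.moves_gam h hy hy' ?_
  rw [← show (a ^ k) ^ i = a from hi, commutatorElement_eq_one_iff_commute.2 (hky.zpow_left i).symm]
  exact one_mem _

omit ha in
theorem mem_center_of_gam {j : ℕ} (ha : LastElt p n a) (hj : 2 ≤ j) {u : lineAt a j}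
    (hu : (u : G) ∈ gam G (n - 2)) : u ∈ Subgroup.center (lineAt a j) :=
  Subgroup.mem_center_iff.2 fun v => Subtype.ext (ha.center_commute h hj hu v.2).eq.symm

theorem comm_lineAt {j : ℕ} (hj : 2 ≤ j) {u v : G} (hu : u ∈ lineAt a j) (hv : v ∈ lineAt a j) :
    ⁅u, v⁆ ∈ gam G (j + 1) := by
  set π := QuotientGroup.mk' (gam G (j + 1))
  have hcen : lineAt a j ≤ (Subgroup.centralizer {π a}).comap π := by
    refine sup_le (Subgroup.zpowers_le.2 ?_) fun b hb => ?_ <;>
      rw [Subgroup.mem_comap, Subgroup.mem_centralizer_singleton_iff]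
    exact (mk_central (by omega) hb _).eq
  rw [← QuotientGroup.eq_one_iff]
  show π ⁅u, v⁆ = 1
  rw [map_commutatorElement, commutatorElement_eq_one_iff_commute]
  have hle : lineAt a j ≤ (Subgroup.centralizer {π u}).comap π := by
    refine sup_le (Subgroup.zpowers_le.2 ?_) fun c hc => ?_ <;>
      rw [Subgroup.mem_comap, Subgroup.mem_centralizer_singleton_iff]
    · exact (Subgroup.mem_centralizer_singleton_iff.1 (hcen hu)).symm
    · exact (mk_central (by omega) hc _).eq
  exact (show Commute (π v) (π u) from Subgroup.mem_centralizer_singleton_iff.1 (hle hv)).symm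

/-- Automorphisms of `⟨a⟩γ_j` keep the deeper terms. -/
theorem map_gam_succ {j : ℕ} (hj : 2 ≤ j) (hjn : j + 3 ≤ n) (ψ : MulAut (lineAt a j)) {i : ℕ}
    (hi : j ≤ i) (hin : i + 3 ≤ n) :
    ∀ u : lineAt a j, (u : G) ∈ gam G (i + 1) → (ψ u : G) ∈ gam G (i + 1) := by
  have h6 := ha.six_le
  induction i using Nat.strong_induction_on with
  | _ i ih =>
  set K : Subgroup G :=
    (((gam G (i + 1)).subgroupOf (lineAt a j)).comap ψ.toMonoidHom).map (lineAt a j).subtype
  have hK : ∀ u : lineAt a j, (u : G) ∈ K → (ψ u : G) ∈ gam G (i + 1) := by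
    rintro u ⟨u', hu', he⟩
    rw [show u = u' from Subtype.ext he.symm]
    exact hu'
  have hcent : gam G (n - 2) ≤ K := fun z hz => by
    refine ⟨⟨z, gam_le_lineAt a j (gam_anti (by omega) hz)⟩, ?_, rfl⟩
    have hc := mem_center_of_gam h ha hj (u := ⟨z, gam_le_lineAt a j (gam_anti (by omega) hz)⟩) hz
    have hψ : ψ ⟨z, gam_le_lineAt a j (gam_anti (by omega) hz)⟩ ∈ Subgroup.center (lineAt a j) := by
      rw [← Subgroup.characteristic_iff_map_eq.1
        (inferInstance : (Subgroup.center (lineAt a j)).Characteristic) ψ]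
      exact ⟨_, hc, rfl⟩
    exact gam_anti (show i + 1 ≤ n - 2 by omega) (ha.mem_center_lineAt h hj hjn hψ)
  have hcomm : ∀ u ∈ gam G i, ∀ v ∈ lineAt a j, ⁅u, v⁆ ∈ K := by
    intro u hu v hv
    have huL : u ∈ lineAt a j := gam_le_lineAt a j (gam_anti hi hu)
    refine ⟨⁅(⟨u, huL⟩ : lineAt a j), ⟨v, hv⟩⁆, ?_, rfl⟩
    show (ψ ⁅(⟨u, huL⟩ : lineAt a j), ⟨v, hv⟩⁆ : G) ∈ gam G (i + 1)
    rw [map_commutatorElement]
    show ⁅(ψ ⟨u, huL⟩ : G), (ψ ⟨v, hv⟩ : G)⁆ ∈ _
    rcases eq_or_lt_of_le hi with rfl | hlt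
    · exact ha.comm_lineAt h hj (ψ _).2 (ψ _).2
    · have h1 := ih (i - 1) (by omega) (by omega) (by omega) ⟨u, huL⟩
        (by rwa [show i - 1 + 1 = i by omega])
      rw [show i - 1 + 1 = i by omega] at h1
      exact comm_mem_gam_succ (by omega) h1 _
  have hgen : ∀ d k, k + d = n - 2 → i + 1 ≤ k → gam G k ≤ K := by
    intro d
    induction d with
    | zero => intro k hk _; rw [show k = n - 2 by omega]; exact hcent
    | succ d ihd =>
      intro k hk hik y hy
      obtain ⟨b, hb, hb'⟩ := h.exists_notMem_succ (show 2 ≤ k - 1 by omega) (by omega)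
      have h1 := comm_mem_gam_succ (show 1 ≤ k - 1 by omega) hb a
      rw [show k - 1 + 1 = k by omega] at h1 hb'
      have h2 : ⁅b, a⁆ ∉ gam G (k + 1) := fun hc => hb' (by
        have := ha.descend h (gam_anti (by omega) hb) (show k + 1 + 1 ≤ n by omega) hc
        rwa [show k + 1 - 1 = k by omega] at this)
      obtain ⟨e, he⟩ := h.exists_pow (by omega) h1 h2 hy
      have h3 := K.mul_mem (K.pow_mem (hcomm b (gam_anti (by omega) hb) a (mem_lineAt_self a j)) e)
        (ihd (k + 1) (by omega) (by omega) he)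
      rwa [mul_inv_cancel_left] at h3
  exact fun u hu => hK u (hgen (n - 2 - (i + 1)) (i + 1) (by omega) le_rfl hu)

/-- For `3 ≤ j ≤ n - 4` also `γ_j` itself. -/
theorem map_gam {j : ℕ} (hj : 3 ≤ j) (hjn : j + 4 ≤ n) (ψ : MulAut (lineAt a j)) {i : ℕ}
    (hi : j ≤ i) (hin : i + 2 ≤ n) :
    ∀ u : lineAt a j, (u : G) ∈ gam G i → (ψ u : G) ∈ gam G i := by
  intro u hu
  rcases eq_or_lt_of_le hi with rfl | hlt
  · refine ha.mem_gam_of_commute_layer h hj (ψ u).2 fun y hy => ?_
    have hyL : y ∈ lineAt a j := gam_le_lineAt a j (gam_anti (by omega) hy)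
    have h1 := ha.map_gam_succ h (show 2 ≤ j by omega) (by omega) ψ⁻¹ (i := n - 4) (by omega)
      (by omega) ⟨y, hyL⟩ (by rwa [show n - 4 + 1 = n - 3 by omega])
    rw [show n - 4 + 1 = n - 3 by omega] at h1
    have hc : Commute u (ψ⁻¹ ⟨y, hyL⟩) :=
      Subtype.ext (comm_kill h (show 1 ≤ j by omega) (show 1 ≤ n - 3 by omega) (by omega) hu h1).eq
    have := hc.map ψ
    rw [MulAut.apply_inv_self] at this
    exact congrArg Subtype.val this.eq
  · have := ha.map_gam_succ h (show 2 ≤ j by omega) (by omega) ψ (i := i - 1) (by omega) (by omega)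
      u (by rwa [show i - 1 + 1 = i by omega])
    rwa [show i - 1 + 1 = i by omega] at this

end LastElt

end CfsgLib.Fus.EssentialElemCube
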