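import Cfsg.Agent.Fus.EssentialElemCube.Setup
import Cfsg.Agent.Fus.EssentialElemCube.Lines

/-!
No essential elementary abelian subgroup of order `p ^ 3` in a saturated system over a `p`-group of
maximal class: the automorphism of sign type climbs the normaliser chain and contradicts the pairing.
-/

set_option autoImplicit false

open scoped commutatorElement

namespace CfsgLib.Fus.EssentialElemCube

open Cfsg Cfsg.FusionSystem CfsgLib.Fus CfsgLib.Fusion.Alperin CfsgLib.PGroup.MaxClass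

variable {G : Type*} [Group G] {p n : ℕ}

/-- The sign on the layer `i`. -/
def sgn (c : ℤ) (n i : ℕ) : ℤ := c * (-1) ^ (n - 3 - i)

theorem sgn_cases {c : ℤ} (hc : c * c = 1) (n i : ℕ) : sgn c n i = 1 ∨ sgn c n i = -1 := by
  have h : sgn c n i * sgn c n i = 1 := by
    rw [sgn, mul_mul_mul_comm, hc, one_mul, ← pow_add, ← two_mul, pow_mul]
    norm_num
  exact mul_self_eq_one_iff.1 h

/-- An automorphism of `⟨a⟩γ_j` of sign type. -/
structure SignAut (F : Cfsg.FusionSystem (⊤ : Subgroup G)) (n : ℕ) (a z1 : G) (c : ℤ) (j : ℕ)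
    (r : MulAut (lineAt a j)) : Prop where
  mem : r ∈ F.autGroup (lineAt a j)
  center : ∀ u : lineAt a j, (u : G) ∈ gam G (n - 2) → (u : G)⁻¹ * r u ∈ Subgroup.zpowers z1
  self : a * (r ⟨a, mem_lineAt_self a j⟩ : G) ∈ gam G j
  layer : ∀ i, j < i → i + 3 ≤ n → ∀ u : lineAt a j, (u : G) ∈ gam G i →
    ((u : G) ^ sgn c n i)⁻¹ * r u ∈ gam G (i + 1)
  top : ∀ u : lineAt a j, (u : G) ∈ gam G j →
    ∃ q : ℤ, ((u : G) ^ sgn c n j)⁻¹ * ((a ^ q)⁻¹ * r u) ∈ gam G (j + 1)

variable [Finite G] [Fact p.Prime] {F : Cfsg.FusionSystem (⊤ : Subgroup G)} {a z1 : G}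

/-- One step up the chain. -/
theorem SignAut.step (ha : LastElt p n a) (h : IsMaxCl p G n) {c : ℤ} (hc : c * c = 1) {j : ℕ}
    (hj : 3 ≤ j) (hjn : j + 3 ≤ n) (hF : F.IsSaturated p) (hfn : F.IsFullyNormalized (lineAt a j))
    {r : MulAut (lineAt a j)} (hr : SignAut F n a z1 c j r)
    (hexact : ∀ u : lineAt a j, (u : G) ∈ gam G j → (r u : G) ∈ gam G j)
    (hnorm : ∀ β ∈ Cfsg.autInducedBy (⊤ : Subgroup G) (lineAt a j),
      r * β * r⁻¹ ∈ Cfsg.autInducedBy (⊤ : Subgroup G) (lineAt a j)) :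
    ∃ ψ : MulAut (lineAt a (j - 1)), SignAut F n a z1 c (j - 1) ψ := by
  have hS : IsPGroup p (⊤ : Subgroup G) := h.isPGroup.to_subgroup ⊤
  have hNL : Subgroup.normalizer (lineAt a j : Set G) = lineAt a (j - 1) :=
    ha.normalizer_lineAt h hj (by omega)
  have hLL' : lineAt a j ≤ lineAt a (j - 1) := hNL ▸ Subgroup.le_normalizer
  set φ : lineAt a j →* G := (lineAt a j).subtype.comp r.toMonoidHom
  have hφ : φ ∈ F.Hom (lineAt a j) := (mem_autGroup_iff F le_top).1 hr.mem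
  have hφr : φ.range = lineAt a j := range_subtype_comp r
  obtain ⟨-, hrec⟩ := fullyNormalized_props hS hF hfn
  have hext : lineAt a (j - 1) ≤ Cfsg.FusionSystem.extender (⊤ : Subgroup G) (lineAt a j) φ := by
    intro g hg
    have hg := hNL.ge hg
    refine mem_extender_of_congr hφ hφr (Subgroup.mem_top g) hg ?_
    rw [show isoOf hφ hφr = r from MulEquiv.ext fun y => Subtype.ext rfl]
    exact hnorm _ (conjAut_mem_autInducedBy hg (Subgroup.mem_top g))
  obtain ⟨ψ, hψ, hψL⟩ := exists_ext hrec hφ hφr hLL' hext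
  have hψL' : ∀ g : lineAt a (j - 1), ψ g ∈ lineAt a (j - 1) := by
    intro g
    have hgN : (g : G) ∈ Subgroup.normalizer (lineAt a j : Set G) := hNL.ge g.2
    refine hNL.le (mem_normalizer_of_comm fun y hy => ?_)
    obtain ⟨v, hv⟩ := r.surjective ⟨y, hy⟩
    have e0 : ψ (Subgroup.inclusion hLL' v) = y := (hψL v).trans (congrArg Subtype.val hv)
    rw [← e0, ← map_commutatorElement]
    have hm : (g : G) * v * (g : G)⁻¹ * (v : G)⁻¹ ∈ (lineAt a j) :=
      (lineAt a j).mul_mem ((Subgroup.mem_normalizer_iff.1 hgN _).1 v.2) ((lineAt a j).inv_mem v.2)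
    rw [show ⁅g, Subgroup.inclusion hLL' v⁆ = Subgroup.inclusion hLL' ⟨_, hm⟩ from Subtype.ext rfl,
      hψL]
    exact (r ⟨_, hm⟩).2
  have hψr : ψ.range = lineAt a (j - 1) := by
    refine Subgroup.eq_of_le_of_card_ge ?_ ?_
    · rintro _ ⟨g, rfl⟩; exact hψL' g
    · exact (Nat.card_congr (MonoidHom.ofInjective (F.injective_of_mem hψ)).toEquiv).le
  have hagree : ∀ (u : lineAt a (j - 1)) (hu : (u : G) ∈ lineAt a j), ψ u = (r ⟨u, hu⟩ : G) :=
    fun u hu => ((congrArg ψ (Subtype.ext rfl : Subgroup.inclusion hLL' ⟨u, hu⟩ = u)).symm.trans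
      (hψL ⟨u, hu⟩)).trans rfl
  have hsucc : ∀ i, j ≤ i → i + 3 ≤ n → ∀ (u : lineAt a (j - 1)) (_ : (u : G) ∈ gam G i),
      ((u : G) ^ sgn c n i)⁻¹ * ψ u ∈ gam G (i + 1) := by
    intro i hi hin u hu
    have huL : (u : G) ∈ (lineAt a j) := gam_le_lineAt a j (gam_anti hi hu)
    rw [hagree u huL]
    rcases eq_or_lt_of_le hi with rfl | hlt
    · obtain ⟨q, hq⟩ := hr.top ⟨u, huL⟩ hu
      have hqa : a ^ q = 1 := by
        refine ha.zpow_eq_one (gam_anti (show 2 ≤ j by omega) ?_)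
        have h1 : (a ^ q)⁻¹ * (r ⟨u, huL⟩ : G) ∈ gam G j := by
          have := (gam G j).mul_mem ((gam G j).zpow_mem hu (sgn c n j))
            (gam_anti (show j ≤ j + 1 by omega) hq)
          rwa [mul_inv_cancel_left] at this
        have := (gam G j).mul_mem (hexact ⟨u, huL⟩ hu) ((gam G j).inv_mem h1)
        rwa [mul_inv_rev, inv_inv, mul_inv_cancel_left] at this
      rwa [hqa, inv_one, one_mul] at hq
    · exact hr.layer i hlt hin ⟨u, huL⟩ hu
  refine ⟨isoOf hψ hψr, isoOf_mem_autGroup hψ hψr, fun u hu => ?_, ?_, fun i hi hin u hu => ?_,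
    fun u hu => ?_⟩
  · have huL : (u : G) ∈ (lineAt a j) := gam_le_lineAt a j (gam_anti (show j ≤ n - 2 by omega) hu)
    show (u : G)⁻¹ * ψ u ∈ _
    rw [hagree u huL]
    exact hr.center ⟨u, huL⟩ hu
  · show a * ψ ⟨a, _⟩ ∈ gam G (j - 1)
    rw [hagree _ (mem_lineAt_self a j)]
    exact gam_anti (by omega) hr.self
  · exact hsucc i (by omega) hin u hu
  -- the new layer
  obtain ⟨q, v, hv, hqv⟩ := mem_lineAt (hψL' u)
  refine ⟨q, ?_⟩
  show ((u : G) ^ sgn c n (j - 1))⁻¹ * ((a ^ q)⁻¹ * ψ u) ∈ gam G (j - 1 + 1)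
  rw [show j - 1 + 1 = j by omega, ← hqv, inv_mul_cancel_left]
  set aL : lineAt a (j - 1) := ⟨a, mem_lineAt_self a (j - 1)⟩
  have hX : ⁅(u : G), a⁆ ∈ gam G j := by
    have := comm_mem_gam_succ (show 1 ≤ j - 1 by omega) hu a
    rwa [show j - 1 + 1 = j by omega] at this
  have hkey := hsucc j le_rfl hjn ⁅u, aL⁆ hX
  rw [map_commutatorElement] at hkey
  set w := a * ψ aL with hw
  have hwj : w ∈ gam G j := by
    rw [hw, hagree aL (mem_lineAt_self a j)]
    exact hr.self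
  have hψa : ψ aL = a⁻¹ * w := (inv_mul_cancel_left a _).symm
  let π := QuotientGroup.mk' (gam G (j + 1))
  have hwc : ∀ y, Commute (π w) y := fun y => mk_central (by omega) hwj y
  have hvw : ∀ {k : ℤ} {b : G}, b ∈ gam G (j - 1) → ∀ y, Commute (π ⁅b, a ^ k⁆) y := fun {k b} hb y => by
    have h1 := comm_mem_gam_succ (show 1 ≤ j - 1 by omega) hb (a ^ k)
    rw [show j - 1 + 1 = j by omega] at h1
    exact mk_central (by omega) h1 y
  have hone : ∀ {b : G}, b ∈ gam G (j - 1) → ∀ y, Commute (π ⁅b, a⁆) y := fun {b} hb y => by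
    have := hvw (k := 1) hb y
    rwa [zpow_one] at this
  set s := sgn c n j with hs
  have h1 : π ⁅ψ u, ψ aL⁆ = π (⁅(u : G), a⁆ ^ s) := by
    refine (QuotientGroup.eq.2 ?_).symm
    exact hkey
  have h2 : π ⁅ψ u, ψ aL⁆ = (π ⁅v, a⁆)⁻¹ := by
    rw [← hqv, hψa, map_commutatorElement, map_mul, map_mul, map_inv,
      show ∀ x y z t : G ⧸ gam G (j + 1), ⁅x * y, z * t⁆ =
        x * (⁅y, z⁆ * (z * ⁅y, t⁆ * z⁻¹)) * x⁻¹ * (⁅x, z⁆ * (z * ⁅x, t⁆ * z⁻¹)) from
        fun x y z t => by simp only [commutatorElement_def]; group,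
      commutatorElement_eq_one_iff_commute.2 (hwc (π (a ^ q))).symm,
      commutatorElement_eq_one_iff_commute.2 (hwc (π v)).symm]
    have h3 : ⁅π (a ^ q), (π a)⁻¹⁆ = 1 := by
      rw [commutatorElement_eq_one_iff_commute]
      exact (((Commute.refl a).zpow_left q).map π).inv_right
    have h4 : ∀ y, Commute ⁅π v, π a⁆ y := fun y => by
      rw [← map_commutatorElement]; exact hone hv y
    rw [h3, comm_inv_right_of_central h4, mul_one, mul_inv_cancel, mul_one, mul_one,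
      ← ((h4 _).inv_left).eq, mul_inv_cancel_right, map_commutatorElement, mul_one]
  have h5 : π ⁅(u : G) ^ s, a⁆ = π (⁅(u : G), a⁆ ^ s) := by
    rcases sgn_cases hc n j with e | e <;> rw [hs, e]
    · rw [zpow_one, zpow_one]
    · rw [zpow_neg_one, zpow_neg_one, map_commutatorElement, map_inv, map_inv,
        comm_inv_left_of_central (fun y => by rw [← map_commutatorElement]; exact hone hu y),
        map_commutatorElement]
  have hsu : (u : G) ^ s ∈ gam G (j - 1) := (gam G (j - 1)).zpow_mem hu s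
  have hg : ⁅v * (u : G) ^ s, a⁆ ∈ gam G (j + 1) := by
    rw [← QuotientGroup.eq_one_iff]
    show π _ = 1
    rw [show ⁅v * (u : G) ^ s, a⁆ = v * ⁅(u : G) ^ s, a⁆ * v⁻¹ * ⁅v, a⁆ by
      simp only [commutatorElement_def]; group, map_mul, map_mul, map_mul, map_inv,
      ← (hone hsu (π v)).eq, mul_inv_cancel_right, h5, ← h1, h2, inv_mul_cancel]
  have hd := ha.descend h (gam_anti (show 2 ≤ j - 1 by omega) ((gam G (j - 1)).mul_mem hv hsu))
    (show j + 1 + 1 ≤ n by omega) hg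
  rw [show j + 1 - 1 = j by omega] at hd
  have hsg : sgn c n (j - 1) = -s := by
    rw [hs, sgn, sgn, show n - 3 - (j - 1) = n - 3 - j + 1 by omega, pow_succ]
    ring
  rw [hsg, zpow_neg, inv_inv]
  have := (gam_normal j).conj_mem _ hd ((u : G) ^ s)
  rwa [← mul_assoc, mul_inv_cancel_right] at this

/-- Below the top the sign automorphisms normalise the automiser. -/
theorem normalizes_autInduced (ha : LastElt p n a) (h : IsMaxCl p G n) {j : ℕ} (hj : 3 ≤ j)
    (hjn : j + 4 ≤ n) (hF : F.IsSaturated p) (hfn : F.IsFullyNormalized (lineAt a j))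
    {r : MulAut (lineAt a j)} (hr : r ∈ F.autGroup (lineAt a j)) :
    ∀ β ∈ Cfsg.autInducedBy (⊤ : Subgroup G) (lineAt a j),
      r * β * r⁻¹ ∈ Cfsg.autInducedBy (⊤ : Subgroup G) (lineAt a j) := by
  intro β hβ
  have hNL : Subgroup.normalizer ((lineAt a j) : Set G) = lineAt a (j - 1) := ha.normalizer_lineAt h hj (by omega)
  obtain ⟨y, -, hy⟩ := mem_autInducedBy_iff.1 hβ
  have hyL' : y ∈ lineAt a (j - 1) := hNL ▸ mem_normalizer_of_aut hy
  have hyN := mem_normalizer_of_aut hy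
  have hstab : ∀ u : (lineAt a j), ((u : G) ∈ gam G (n - 2) → β u = u) ∧
      (∀ i, j ≤ i → i + 2 ≤ n → (u : G) ∈ gam G i → (u : G)⁻¹ * β u ∈ gam G (i + 1)) ∧
      (u : G)⁻¹ * β u ∈ gam G j := by
    intro u
    have he : (u : G)⁻¹ * β u = ⁅(u : G)⁻¹, y⁆ := by rw [hy, commutatorElement_def]; group
    refine ⟨fun hu => Subtype.ext ?_, fun i hi hin hu => ?_, ?_⟩
    · rw [hy, ← (ha.center_commute h (show 2 ≤ j - 1 by omega) hu hyL').eq, mul_inv_cancel_right]
    · rw [he]; exact comm_mem_gam_succ (by omega) (inv_mem hu) y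
    · refine ha.mem_gam_of_mem_lineAt (by omega) ((lineAt a j).mul_mem ((lineAt a j).inv_mem u.2) (β u).2) ?_
      rw [he]
      exact LastElt.comm_mem_gam_two h _ _
  have hinv : ∀ (ψ : MulAut (lineAt a j)) i, j ≤ i → i + 2 ≤ n → ∀ u : (lineAt a j), (u : G) ∈ gam G i →
      (ψ u : G) ∈ gam G i := fun ψ i hi hin => ha.map_gam h hj hjn ψ hi hin
  set κ : F.autGroup (lineAt a j) := ⟨r * β * r⁻¹, mul_mem (mul_mem hr
    (autInducedBy_le_autGroup F le_top hβ)) (inv_mem hr)⟩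
  refine Subgroup.mem_subgroupOf.1 (mem_autInduced_of_pCore hF h.isPGroup hfn (κ := κ)
    (mem_pCore_of_stabilizes (h.isPGroup.to_subgroup (lineAt a j)) (F.autGroup (lineAt a j)) (n - j)
      (fun k => if k = 0 then ⊥ else if k + j + 1 ≤ n then gam G (n - 1 - k) else (lineAt a j)) rfl ?_ ?_ ?_
      (α := κ) ?_))
  · rw [if_neg (by omega), if_neg (by omega)]
  · refine monotone_nat_of_le_succ fun k => ?_
    by_cases hk : k = 0
    · rw [if_pos hk]; exact bot_le
    rw [if_neg hk, if_neg (show k + 1 ≠ 0 by omega)]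
    by_cases h1 : k + 1 + j + 1 ≤ n
    · rw [if_pos h1, if_pos (by omega)]
      exact gam_anti (by omega)
    rw [if_neg h1]
    by_cases h2 : k + j + 1 ≤ n
    · rw [if_pos h2]
      exact (gam_anti (by omega)).trans (gam_le_lineAt a j)
    · rw [if_neg h2]
  · intro k ψ _ u hu
    by_cases hk : k = 0
    · rw [if_pos hk] at hu ⊢
      rw [show u = 1 from Subtype.ext (Subgroup.mem_bot.1 hu), map_one]
      exact one_mem _
    rw [if_neg hk] at hu ⊢
    by_cases h2 : k + j + 1 ≤ n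
    · rw [if_pos h2] at hu ⊢
      exact hinv ψ _ (by omega) (by omega) u hu
    · rw [if_neg h2]
      exact (ψ u).2
  · intro k hk u hu
    have hu' : (u : G)⁻¹ * ((r * β * r⁻¹ : MulAut (lineAt a j)) u : G) =
        (r ((r⁻¹ u)⁻¹ * β (r⁻¹ u)) : G) := by
      rw [map_mul, map_inv, MulAut.apply_inv_self]
      rfl
    show (u : G)⁻¹ * ((r * β * r⁻¹ : MulAut (lineAt a j)) u : G) ∈ _
    rw [hu']
    obtain ⟨g1, g2, g3⟩ := hstab (r⁻¹ u)
    by_cases hk0 : k = 0
    · subst hk0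
      rw [if_neg (by omega), if_pos (by omega), show n - 1 - (0 + 1) = n - 2 by omega] at hu
      rw [if_pos rfl, g1 (hinv r⁻¹ _ (by omega) (by omega) u hu), inv_mul_cancel, map_one]
      exact one_mem _
    rw [if_neg hk0, if_pos (by omega)]
    refine hinv r (n - 1 - k) (by omega) (by omega) _ ?_
    show ((r⁻¹ u : (lineAt a j)) : G)⁻¹ * β (r⁻¹ u) ∈ gam G (n - 1 - k)
    rw [if_neg (by omega)] at hu
    by_cases h2 : k + 1 + j + 1 ≤ n
    · rw [if_pos h2] at hu
      have := g2 (n - 1 - (k + 1)) (by omega) (by omega) (hinv r⁻¹ _ (by omega) (by omega) u hu)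
      rwa [show n - 1 - (k + 1) + 1 = n - 1 - k by omega] at this
    · rw [show n - 1 - k = j by omega]
      exact g3

/-- Data of the last type. -/
theorem exists_lastElt (h : IsMaxCl p G n) {E : Subgroup G} (hE : Cube p E) (hlast : IsLastType p n E) :
    ∃ a, LastElt p n a ∧ E = lineAt a (n - 2) ∧ Even n ∧ twoStep G (n - 2) ≠ twoStep G 2 := by
  obtain ⟨hev, h6, -, hne, a, ha, haT, haP, hEq⟩ := hlast
  exact ⟨a, ⟨h6, haT, haP, hE.exp a ha⟩, hEq, hev, hne⟩

variable {E0 : Subgroup G}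

/-- The chain groups are fully normalised. -/
theorem fullyNormalized_lineAt (hst : Start F p E0) (h : IsMaxCl p G n) (hp5 : 5 ≤ p)
    (ha : LastElt p n a) (hconj : F.IsConj E0 (lineAt a (n - 2))) {j : ℕ} (hj : 3 ≤ j)
    (hjn : j + 4 ≤ n) : F.IsFullyNormalized (lineAt a j) := by
  refine ⟨le_top, fun Q hQ => ?_⟩
  rw [normalizerIn_top, normalizerIn_top]
  obtain ⟨φ, hφ, rfl⟩ := hQ
  let img : ℕ → Subgroup G := fun i => ((lineAt a i).subgroupOf (lineAt a j)).map φ
  have hle : ∀ i, j ≤ i → lineAt a i ≤ lineAt a j := fun i hi =>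
    sup_le_sup le_rfl (gam_anti hi)
  have hE' : F.IsConj E0 (img (n - 2)) := by
    refine isConj_trans hconj ⟨φ.comp (Subgroup.inclusion (hle _ (by omega))),
      restrict_mem F hφ _, ?_⟩
    ext z
    constructor
    · rintro ⟨u, rfl⟩
      exact ⟨Subgroup.inclusion (hle _ (by omega)) u, u.2, rfl⟩
    · rintro ⟨u, hu, rfl⟩
      exact ⟨⟨u, hu⟩, congrArg φ (Subtype.ext rfl)⟩
  obtain ⟨hcube, -⟩ := cube_of_conj hst h.card_eq h.four_le hE'
  rcases classify h hcube hp5 (by omega) with hmov | hlast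
  · have := hmov.1
    omega
  obtain ⟨a', ha', hEq, -, -⟩ := exists_lastElt h hcube hlast
  have hcard : ∀ i, j ≤ i → i ≤ n → Nat.card (img i) = p ^ (n - i + 1) := fun i hi hin => by
    rw [Subgroup.card_map_of_injective (F.injective_of_mem hφ),
      Nat.card_congr (Subgroup.subgroupOfEquivOfLe (hle i hi)).toEquiv, ha.card_lineAt h (by omega) hin]
  have hall : ∀ d i, i + d = n - 2 → j ≤ i → img i = lineAt a' i := by
    intro d
    induction d with
    | zero => intro i hi _; rw [show i = n - 2 by omega]; exact hEq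
    | succ d ih =>
      intro i hi hji
      have hi1 := ih (i + 1) (by omega) (by omega)
      have hN : img i ≤ Subgroup.normalizer (img (i + 1) : Set G) := by
        rintro _ ⟨u, hu, rfl⟩
        refine mem_normalizer_of_comm ?_
        rintro _ ⟨v, hv, rfl⟩
        refine ⟨⁅u, v⁆, ?_, map_commutatorElement φ u v⟩
        refine Subgroup.mem_subgroupOf.2 ?_
        show ⁅(u : G), (v : G)⁆ ∈ lineAt a (i + 1)
        have hv' : (v : G) ∈ lineAt a i := sup_le_sup le_rfl (gam_anti (by omega)) hv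
        exact gam_le_lineAt a _ (ha.comm_lineAt h (by omega) hu hv')
      rw [hi1, ha'.normalizer_lineAt h (by omega) (by omega), show i + 1 - 1 = i by omega] at hN
      exact Subgroup.eq_of_le_of_card_ge hN
        (by rw [ha'.card_lineAt h (by omega) (by omega), hcard i hji (by omega)])
  have htop : img j = φ.range := by
    show ((lineAt a j).subgroupOf (lineAt a j)).map φ = φ.range
    rw [Subgroup.subgroupOf_self, MonoidHom.range_eq_map]
  rw [← htop, hall (n - 2 - j) j (by omega) le_rfl, ha'.normalizer_lineAt h hj (by omega),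
    ha.normalizer_lineAt h hj (by omega), ha.card_lineAt h (by omega) (by omega),
    ha'.card_lineAt h (by omega) (by omega)]

/-- The starting sign automorphism on the normaliser. -/
theorem exists_base_sign (ha : LastElt p n a) (h : IsMaxCl p G n) (hp5 : 5 ≤ p) {L : Subgroup G}
    (hL : L = lineAt a (n - 3)) {e w e1 : L}
    (hd : NData p L (F.autGroup L) ((Cfsg.autInducedBy (⊤ : Subgroup G) L).subgroupOf (F.autGroup L))
      e w e1)
    (hEq : (lineAt a (n - 2)).subgroupOf L = Subgroup.zpowers e1 ⊔ Subgroup.center L)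
    (hcen : Subgroup.center L = (gam G (n - 2)).subgroupOf L) :
    ∃ (z1 : G) (c : ℤ) (r : MulAut (lineAt a (n - 3))), c * c = 1 ∧ z1 ≠ 1 ∧ z1 ^ p = 1 ∧
      z1 ∈ gam G (n - 2) ∧ (∀ y ∈ gam G (n - 3), ⁅y, a⁆ ∈ Subgroup.zpowers z1) ∧
      SignAut F n a z1 c (n - 3) r ∧
      (∀ u : lineAt a (n - 3), (u : G) ∈ gam G (n - 3) → (r u : G) ∈ gam G (n - 3)) ∧
      ∀ β ∈ Cfsg.autInducedBy (⊤ : Subgroup G) (lineAt a (n - 3)),
        r * β * r⁻¹ ∈ Cfsg.autInducedBy (⊤ : Subgroup G) (lineAt a (n - 3)) := by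
  subst hL
  have h6 := ha.six_le
  set A3 : Subgroup (lineAt a (n - 3)) := (gam G (n - 3)).subgroupOf (lineAt a (n - 3)) with hA3
  have hA3c : Subgroup.center (lineAt a (n - 3)) ≤ A3 := by
    rw [hcen]; exact fun u hu => gam_anti (show n - 3 ≤ n - 2 by omega) hu
  have he1E : (e1 : G) ∈ lineAt a (n - 2) :=
    Subgroup.mem_subgroupOf.1 (hEq.ge (Subgroup.mem_sup_left (Subgroup.mem_zpowers e1)))
  have hEmem : ∀ u : (lineAt a (n - 3)), (u : G) ∈ lineAt a (n - 2) → u ∈ Subgroup.zpowers e1 ⊔ Subgroup.center (lineAt a (n - 3)) :=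
    fun u hu => hEq.le (Subgroup.mem_subgroupOf.2 hu)
  have he1A : e1 ∉ A3 := fun hm => hd.e1_notMem (by
    rw [hcen, Subgroup.mem_subgroupOf]
    exact ha.mem_gam_of_mem_lineAt (show 2 ≤ n - 2 by omega) he1E
      (gam_anti (show 2 ≤ n - 3 by omega) hm))
  have hP3 : ∀ β ∈ (Cfsg.autInducedBy (⊤ : Subgroup G) (lineAt a (n - 3))).subgroupOf (F.autGroup (lineAt a (n - 3))),
      ∀ g : (lineAt a (n - 3)), g⁻¹ * (β : MulAut (lineAt a (n - 3))) g ∈ A3 := by
    intro β hβ g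
    obtain ⟨y, -, hy⟩ := mem_autInducedBy_iff.1 (Subgroup.mem_subgroupOf.1 hβ)
    refine Subgroup.mem_subgroupOf.2 (ha.mem_gam_of_mem_lineAt (by omega) (g⁻¹ * (β : MulAut (lineAt a (n - 3))) g).2 ?_)
    show (g : G)⁻¹ * ((β : MulAut (lineAt a (n - 3))) g : G) ∈ gam G 2
    rw [hy, show (g : G)⁻¹ * (y * g * y⁻¹) = ⁅(g : G)⁻¹, y⁆ by rw [commutatorElement_def]; group]
    exact LastElt.comm_mem_gam_two h _ _
  obtain ⟨y0, hy0, hy0'⟩ := h.exists_notMem_succ (show 2 ≤ n - 4 by omega) (by omega)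
  rw [show n - 4 + 1 = n - 3 by omega] at hy0'
  have hy0N : y0 ∈ Subgroup.normalizer ((lineAt a (n - 3)) : Set G) := by
    rw [ha.normalizer_lineAt h (by omega) (by omega), show n - 3 - 1 = n - 4 by omega]
    exact gam_le_lineAt a _ hy0
  have hmove : ∃ α ∈ (Cfsg.autInducedBy (⊤ : Subgroup G) (lineAt a (n - 3))).subgroupOf (F.autGroup (lineAt a (n - 3))),
      topHom (α : MulAut (lineAt a (n - 3))) (e1 : (lineAt a (n - 3)) ⧸ Subgroup.center (lineAt a (n - 3))) ∉
        Subgroup.zpowers (e1 : (lineAt a (n - 3)) ⧸ Subgroup.center (lineAt a (n - 3))) := by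
    have hin := conjAut_mem_autInducedBy (K := (⊤ : Subgroup G)) hy0N (Subgroup.mem_top y0)
    refine ⟨⟨conjAut hy0N, autInducedBy_le_autGroup F le_top hin⟩, hin, fun hm => hy0' ?_⟩
    set β : MulAut (lineAt a (n - 3)) := conjAut hy0N with hβ
    have he : β e1 ∈ Subgroup.zpowers e1 ⊔ Subgroup.center (lineAt a (n - 3)) := by
      rw [topHom_mk] at hm
      obtain ⟨i, hi⟩ := hm
      change (e1 : (lineAt a (n - 3)) ⧸ Subgroup.center (lineAt a (n - 3))) ^ i = _ at hi
      rw [← QuotientGroup.mk_zpow, QuotientGroup.eq] at hi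
      rw [← mul_inv_cancel_left (e1 ^ i) (β e1)]
      exact Subgroup.mul_mem_sup (Subgroup.zpow_mem _ (Subgroup.mem_zpowers _) i) hi
    have hle : Subgroup.zpowers e1 ⊔ Subgroup.center (lineAt a (n - 3)) ≤
        (Subgroup.zpowers e1 ⊔ Subgroup.center (lineAt a (n - 3))).comap β.toMonoidHom := by
      refine sup_le (Subgroup.zpowers_le.2 he) fun u hu => Subgroup.mem_sup_right ?_
      rw [← Subgroup.characteristic_iff_map_eq.1 (inferInstance : (Subgroup.center (lineAt a (n - 3))).Characteristic) β]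
      exact ⟨u, hu, rfl⟩
    have hyN : y0 ∈ Subgroup.normalizer (lineAt a (n - 2) : Set G) := by
      refine mem_normalizer_of_comm fun u hu => ?_
      have huL : u ∈ (lineAt a (n - 3)) := sup_le_sup le_rfl (gam_anti (show n - 3 ≤ n - 2 by omega)) hu
      have h1 : β ⟨u, huL⟩ ∈ Subgroup.zpowers e1 ⊔ Subgroup.center (lineAt a (n - 3)) := hle (hEmem ⟨u, huL⟩ hu)
      rw [← hEq] at h1
      rw [commutatorElement_def]
      exact mul_mem (Subgroup.mem_subgroupOf.1 h1) (inv_mem hu)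
    rw [ha.normalizer_lineAt h (by omega) (by omega), show n - 2 - 1 = n - 3 by omega] at hyN
    exact ha.mem_gam_of_mem_lineAt (by omega) hyN (gam_anti (by omega) hy0)
  obtain ⟨r, hrP, hrz, hre1, c, hc, hrA⟩ := hd.exists_sign hp5 hA3c he1A hP3 hmove
  have hexact : ∀ u : (lineAt a (n - 3)), (u : G) ∈ gam G (n - 3) → ((r : MulAut (lineAt a (n - 3))) u : G) ∈ gam G (n - 3) := by
    intro u hu
    have h1 := hrA u (Subgroup.mem_subgroupOf.2 hu)
    have h2 : u ^ c * ((u ^ c)⁻¹ * (r : MulAut (lineAt a (n - 3))) u) ∈ A3 :=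
      A3.mul_mem (A3.zpow_mem (Subgroup.mem_subgroupOf.2 hu) c) (hA3c h1)
    rw [mul_inv_cancel_left] at h2
    exact Subgroup.mem_subgroupOf.1 h2
  have haL : a ∈ (lineAt a (n - 3)) := mem_lineAt_self a _
  have hae : (⟨a, haL⟩ : (lineAt a (n - 3))) * (r : MulAut (lineAt a (n - 3))) ⟨a, haL⟩ ∈ A3 := by
    haveI : A3.Normal := inferInstanceAs ((gam G (n - 3)).subgroupOf (lineAt a (n - 3))).Normal
    let π := QuotientGroup.mk' A3
    have hcom : ∀ x y : (lineAt a (n - 3)), Commute (π x) (π y) := fun x y => by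
      rw [← commutatorElement_eq_one_iff_commute, ← map_commutatorElement]
      exact (QuotientGroup.eq_one_iff _).2 (hA3c ((Subgroup.zpowers_le.2 hd.e_mem) (hd.comm_mem x y)))
    let K : Subgroup (lineAt a (n - 3)) :=
      { carrier := {u | π (u * (r : MulAut (lineAt a (n - 3))) u) = 1}
        one_mem' := by simp
        mul_mem' := fun {u v} hu hv => by
          show π (u * v * (r : MulAut (lineAt a (n - 3))) (u * v)) = 1
          rw [map_mul (r : MulAut (lineAt a (n - 3))), show u * v * ((r : MulAut (lineAt a (n - 3))) u * (r : MulAut (lineAt a (n - 3))) v) =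
            u * (v * (r : MulAut (lineAt a (n - 3))) u) * (r : MulAut (lineAt a (n - 3))) v by group, map_mul, map_mul, map_mul,
            (hcom v _).eq, ← mul_assoc, mul_assoc, ← map_mul, ← map_mul]
          rw [show π (u * (r : MulAut (lineAt a (n - 3))) u) = 1 from hu,
            show π (v * (r : MulAut (lineAt a (n - 3))) v) = 1 from hv, one_mul]
        inv_mem' := fun {u} hu => by
          show π (u⁻¹ * (r : MulAut (lineAt a (n - 3))) u⁻¹) = 1
          rw [map_inv, map_mul, (hcom _ _).eq, ← map_mul, ← mul_inv_rev, map_inv,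
            show π (u * (r : MulAut (lineAt a (n - 3))) u) = 1 from hu, inv_one] }
    have hK : Subgroup.zpowers e1 ⊔ Subgroup.center (lineAt a (n - 3)) ≤ K := by
      refine sup_le (Subgroup.zpowers_le.2 ((QuotientGroup.eq_one_iff _).2 hre1)) fun u hu => ?_
      exact (QuotientGroup.eq_one_iff _).2 (A3.mul_mem (hA3c hu) (hA3c (hd.center_mem _ hu)))
    exact (QuotientGroup.eq_one_iff _).1 (hK (hEmem ⟨a, haL⟩ (mem_lineAt_self a _)))
  refine ⟨e, c, (r : MulAut (lineAt a (n - 3))), hc, fun he => hd.e_ne (Subtype.ext he),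
    congrArg Subtype.val hd.e_pow, ?_, fun y hy => ?_, ⟨r.2, fun u hu => ?_, ?_, ?_, fun u hu => ?_⟩,
    hexact, fun β hβ => ?_⟩
  · have := hd.e_mem
    rw [hcen, Subgroup.mem_subgroupOf] at this
    exact this
  · obtain ⟨i, hi⟩ := hd.comm_mem ⟨y, gam_le_lineAt a _ hy⟩ ⟨a, haL⟩
    exact ⟨i, congrArg Subtype.val hi⟩
  · obtain ⟨i, hi⟩ := hrz u (by rw [hcen, Subgroup.mem_subgroupOf]; exact hu)
    exact ⟨i, congrArg Subtype.val hi⟩
  · exact Subgroup.mem_subgroupOf.1 hae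
  · intro i hi hin
    omega
  · refine ⟨0, ?_⟩
    have h1 := hrA u (Subgroup.mem_subgroupOf.2 hu)
    rw [hcen, Subgroup.mem_subgroupOf] at h1
    rw [zpow_zero, inv_one, one_mul, sgn, Nat.sub_self, pow_zero, mul_one,
      show n - 3 + 1 = n - 2 by omega]
    exact h1
  · have := hrP ⟨β, autInducedBy_le_autGroup F le_top hβ⟩ (Subgroup.mem_subgroupOf.2 hβ)
    exact Subgroup.mem_subgroupOf.1 this

/-- No sign automorphism reaches `⟨a⟩γ_2`. -/
theorem false_of_sign_two (ha : LastElt p n a) (h : IsMaxCl p G n) (hp5 : 5 ≤ p) (hev : Even n)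
    (hne : twoStep G (n - 2) ≠ twoStep G 2) {c : ℤ} (hc : c * c = 1) (hz1ne : z1 ≠ 1)
    (hz1p : z1 ^ p = 1) (hz1g : z1 ∈ gam G (n - 2))
    (hz1c : ∀ y ∈ gam G (n - 3), ⁅y, a⁆ ∈ Subgroup.zpowers z1)
    {r : MulAut (lineAt a 2)} (hr : SignAut F n a z1 c 2 r) : False := by
  have h6 := ha.six_le
  obtain ⟨x, hx⟩ := h.exists_good
  obtain ⟨s, hs, hsm, hs1, hsn⟩ := h.exists_chain hx
  set z := ⁅s 2, s (n - 3)⁆ with hz
  have hzn : z ∈ gam G (n - 1) := by
    have := comm_mem_gam (show 1 ≤ 2 by omega) (show 1 ≤ n - 3 by omega) (hsm 2 (by omega))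
      (hsm (n - 3) (by omega))
    rwa [show 2 + (n - 3) = n - 1 by omega] at this
  have hz1 : z ≠ 1 := by
    intro h1
    have h2 := h.pairing_alternate h.stepsAgree hs hsm hs1 (by omega) (i := 1) (j := n - 3) le_rfl
      (by omega) (by omega)
    rw [show n - 3 + 1 = n - 2 by omega] at h2
    rw [hz] at h1
    rw [show (1 : ℕ) + 1 = 2 from rfl, h1, one_mul] at h2
    exact h.pairing_one_ne hsm hs1 hsn hne h2
  have hmemL : ∀ {g : G}, g ∈ gam G 2 → g ∈ (lineAt a 2) := fun hg => gam_le_lineAt a 2 hg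
  set u2 : (lineAt a 2) := ⟨s 2, hmemL (hsm 2 (by omega))⟩
  set u3 : (lineAt a 2) := ⟨s (n - 3), hmemL (gam_anti (by omega) (hsm (n - 3) (by omega)))⟩
  obtain ⟨q, hq⟩ := hr.top u2 (hsm 2 (by omega))
  have hq3 := hr.layer (n - 3) (by omega) (by omega) u3 (hsm (n - 3) (by omega))
  rw [show n - 3 + 1 = n - 2 by omega] at hq3
  have hc3 : sgn c n (n - 3) = c := by rw [sgn, Nat.sub_self, pow_zero, mul_one]
  rw [hc3] at hq3
  have hc2 : sgn c n 2 = -c := by
    have hodd : Odd (n - 3 - 2) := by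
      obtain ⟨m, hm⟩ := hev
      exact ⟨m - 3, by omega⟩
    rw [sgn, hodd.neg_one_pow]
    ring
  rw [hc2] at hq
  -- work modulo the commutators with `a`
  set z1L : (lineAt a 2) := ⟨z1, hmemL (gam_anti (by omega) hz1g)⟩
  haveI : (Subgroup.zpowers z1L).Normal := ⟨fun g hg t => by
    have hgc : g ∈ Subgroup.center (lineAt a 2) :=
      (Subgroup.zpowers_le.2 (LastElt.mem_center_of_gam h ha le_rfl (u := z1L) hz1g)) hg
    rwa [Subgroup.mem_center_iff.1 hgc t, mul_inv_cancel_right]⟩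
  let π := QuotientGroup.mk' (Subgroup.zpowers z1L)
  set aL : (lineAt a 2) := ⟨a, mem_lineAt_self a 2⟩
  set ru2 := r u2
  set ru3 := r u3
  set v : (lineAt a 2) := (aL ^ q)⁻¹ * ru2 with hv
  set v3 : (lineAt a 2) := (u2 ^ (-c))⁻¹ * v with hv3
  set w : (lineAt a 2) := (u3 ^ c)⁻¹ * ru3 with hw
  have e2 : ru2 = aL ^ q * (u2 ^ (-c) * v3) := by rw [hv3, mul_inv_cancel_left, hv, mul_inv_cancel_left]
  have e3 : ru3 = u3 ^ c * w := by rw [hw, mul_inv_cancel_left]
  have hv3m : (v3 : G) ∈ gam G 3 := hq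
  have hwm : (w : G) ∈ gam G (n - 2) := hq3
  have hwc : w ∈ Subgroup.center (lineAt a 2) := LastElt.mem_center_of_gam h ha le_rfl hwm
  have ha3 : Commute (π aL) (π u3) := by
    rw [← commutatorElement_eq_one_iff_commute, ← map_commutatorElement]
    refine (QuotientGroup.eq_one_iff _).2 ?_
    obtain ⟨i, hi⟩ := hz1c _ (hsm (n - 3) (by omega))
    refine ⟨-i, Subtype.ext ?_⟩
    show z1 ^ (-i) = ⁅a, s (n - 3)⁆
    rw [zpow_neg, show z1 ^ i = _ from hi, commutatorElement_inv]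
  have hv33 : Commute (π v3) (π u3) := (show Commute v3 u3 from Subtype.ext
    (comm_kill h (show 1 ≤ 3 by omega) (show 1 ≤ n - 3 by omega) (by omega) hv3m
      (hsm (n - 3) (by omega))).eq).map π
  have hwπ : ∀ y, Commute (π w) y := fun y => by
    obtain ⟨t, rfl⟩ := QuotientGroup.mk'_surjective _ y
    exact (show Commute w t from (Subgroup.mem_center_iff.1 hwc t).symm).map π
  set U := π u2
  set V := π u3
  have hUV : π ⁅u2, u3⁆ = ⁅U, V⁆ := map_commutatorElement π _ _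
  have hzc : ∀ y, Commute ⁅U, V⁆ y := fun y => by
    obtain ⟨t, rfl⟩ := QuotientGroup.mk'_surjective _ y
    rw [← hUV]
    exact (show Commute ⁅u2, u3⁆ t from Subtype.ext (h.commute_gam_last hzn (t : G)).eq).map π
  have hcc : c = 1 ∨ c = -1 := mul_self_eq_one_iff.1 hc
  have hpow : ⁅U ^ (-c), V ^ c⁆ = ⁅U, V⁆⁻¹ := by
    rcases hcc with rfl | rfl
    · rw [zpow_neg_one, zpow_one, comm_inv_left_of_central hzc]
    · rw [neg_neg, zpow_one, zpow_neg_one, comm_inv_right_of_central hzc]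
  have hdrop : ∀ {X X' Y : (lineAt a 2) ⧸ Subgroup.zpowers z1L}, Commute X' Y → ⁅X * X', Y⁆ = ⁅X, Y⁆ := by
    intro X X' Y hXY
    rw [show ⁅X * X', Y⁆ = X * ⁅X', Y⁆ * X⁻¹ * ⁅X, Y⁆ by simp only [commutatorElement_def]; group,
      commutatorElement_eq_one_iff_commute.2 hXY, mul_one, mul_inv_cancel, one_mul]
  have hrz : π (r ⁅u2, u3⁆) = ⁅U, V⁆⁻¹ := by
    rw [map_commutatorElement r, map_commutatorElement π, show r u2 = ru2 from rfl,
      show r u3 = ru3 from rfl, e2, e3]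
    simp only [map_mul, map_zpow]
    have hVc : ∀ {X : (lineAt a 2) ⧸ Subgroup.zpowers z1L}, Commute X V → Commute X (V ^ c * π w) := fun hX =>
      (hX.zpow_right c).mul_right (hwπ _).symm
    rw [show ⁅(π aL) ^ q * (U ^ (-c) * π v3), V ^ c * π w⁆ =
      (π aL) ^ q * ⁅U ^ (-c) * π v3, V ^ c * π w⁆ * ((π aL) ^ q)⁻¹ *
        ⁅(π aL) ^ q, V ^ c * π w⁆ by simp only [commutatorElement_def]; group,
      commutatorElement_eq_one_iff_commute.2 (hVc (ha3.zpow_left q)), mul_one, hdrop (hVc hv33)]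
    rw [show ⁅U ^ (-c), V ^ c * π w⁆ = ⁅U ^ (-c), V ^ c⁆ * (V ^ c * ⁅U ^ (-c), π w⁆ * (V ^ c)⁻¹) by
      simp only [commutatorElement_def]; group,
      commutatorElement_eq_one_iff_commute.2 (hwπ _).symm, mul_one, mul_inv_cancel, mul_one, hpow,
      ((hzc _).inv_left.symm).eq, mul_inv_cancel_right]
  have hrz' : π (r ⁅u2, u3⁆) = π ⁅u2, u3⁆ := by
    obtain ⟨i, hi⟩ := hr.center ⁅u2, u3⁆ (gam_anti (show n - 2 ≤ n - 1 by omega) hzn)
    refine (QuotientGroup.eq.2 (Subgroup.mem_zpowers_iff.2 ⟨i, Subtype.ext ?_⟩)).symm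
    exact hi
  have hsq : π (⁅u2, u3⁆ ^ 2) = 1 := by
    rw [map_pow, sq]
    nth_rewrite 2 [← hrz']
    rw [hrz, hUV, mul_inv_cancel]
  obtain ⟨i, hi⟩ := (QuotientGroup.eq_one_iff _).1 hsq
  have hi' : z1 ^ i = z ^ 2 := congrArg Subtype.val hi
  have hzp : z ^ p = 1 := by
    have hcl := h.card_gam (n - 1) (by omega) (by omega)
    rw [show n - (n - 1) = 1 by omega, pow_one] at hcl
    have := pow_card_eq_one' (G := gam G (n - 1)) (x := ⟨z, hzn⟩)
    rw [hcl] at this
    exact congrArg Subtype.val this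
  have hord : orderOf z = p := orderOf_eq_prime hzp hz1
  have hz2 : z ^ 2 ≠ 1 := fun hc2 => by
    have h2 := Nat.le_of_dvd (by norm_num) (hord ▸ orderOf_dvd_of_pow_eq_one hc2)
    omega
  have hle : Subgroup.zpowers (z ^ 2) ≤ Subgroup.zpowers z1 := Subgroup.zpowers_le.2 ⟨i, hi'⟩
  have heq := Subgroup.eq_of_le_of_card_ge hle (by
    rw [Nat.card_zpowers, Nat.card_zpowers, orderOf_eq_prime hz1p hz1ne,
      orderOf_eq_prime (by rw [← pow_mul, mul_comm, pow_mul, hzp, one_pow]) hz2])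
  have hz1n : z1 ∈ gam G (n - 1) :=
    (Subgroup.zpowers_le.2 ((gam G (n - 1)).pow_mem hzn 2)) (heq.ge (Subgroup.mem_zpowers z1))
  obtain ⟨y, hy, hy'⟩ := h.exists_notMem_succ (show 2 ≤ n - 3 by omega) (by omega)
  rw [show n - 3 + 1 = n - 2 by omega] at hy'
  exact ha.moves_gam h hy hy' ((Subgroup.zpowers_le.2 hz1n) (hz1c y hy))

/-- The main contradiction. -/
theorem false_of_start (hst : Start F p E0) (h : IsMaxCl p G n) (hp5 : 5 ≤ p) (h5 : 5 ≤ n)
    (hF : F.IsSaturated p) : False := by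
  have hG := h.isPGroup
  obtain ⟨E, hconj, hfnN⟩ := exists_base hst h.card_eq h.four_le hF
  obtain ⟨hcube, hfn⟩ := cube_of_conj hst h.card_eq h.four_le hconj
  have hTI := hasTI_of_conj hst hconj
  rcases classify h hcube hp5 h5 with ⟨-, Z0, hZ0E, hZ0c, hZ0, y, hy, z, hz, hyz⟩ | hlast
  · obtain ⟨e, w, e1, hd, -, hcen⟩ := exists_ndata hF hG hcube hfn hfnN hTI hZ0E hZ0c hZ0
    refine hyz ?_
    have hin := conjAut_mem_autInducedBy (K := (⊤ : Subgroup G)) hy (Subgroup.mem_top y)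
    have hzN : z ∈ Subgroup.normalizer (E : Set G) := Subgroup.le_normalizer (hZ0E hz)
    have := hd.fixes_center hp5 ⟨conjAut hy, autInducedBy_le_autGroup F le_top hin⟩ hin ⟨z, hzN⟩
      (by rw [hcen]; exact hz)
    have h1 : y * z * y⁻¹ = z := congrArg Subtype.val this
    exact (mul_inv_eq_iff_eq_mul.1 h1).symm
  obtain ⟨a, ha, hEq, hev, hne⟩ := exists_lastElt h hcube hlast
  have h6 := ha.six_le
  subst hEq
  have hNE : Subgroup.normalizer (lineAt a (n - 2) : Set G) = lineAt a (n - 3) := by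
    rw [ha.normalizer_lineAt h (by omega) (by omega), show n - 2 - 1 = n - 3 by omega]
  have hZ0E : gam G (n - 2) ≤ lineAt a (n - 2) := gam_le_lineAt a _
  obtain ⟨e, w, e1, hd, hEeq, hcen⟩ := exists_ndata hF hG hcube hfn hfnN hTI hZ0E
    (by rw [h.card_gam (n - 2) (by omega) (by omega), show n - (n - 2) = 2 by omega])
    (fun z hz g hg => ha.center_commute h (show 2 ≤ n - 3 by omega) hz (hNE ▸ hg))
  obtain ⟨z1, c, r, hc, hz1ne, hz1p, hz1g, hz1c, hr, hexact, hnorm⟩ :=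
    exists_base_sign ha h hp5 hNE hd hEeq hcen
  have hfn3 : F.IsFullyNormalized (lineAt a (n - 3)) := hNE ▸ hfnN
  have hdown : ∀ d j, j + d + 4 = n → 2 ≤ j → ∃ ψ, SignAut F n a z1 c j ψ := by
    intro d
    induction d with
    | zero =>
      intro j hj hj2
      obtain rfl : j = n - 3 - 1 := by omega
      exact hr.step ha h hc (by omega) (by omega) hF hfn3 hexact hnorm
    | succ d ih =>
      intro j hj hj2
      obtain ⟨ψ, hψ⟩ := ih (j + 1) (by omega) (by omega)
      have hfnj := fullyNormalized_lineAt hst h hp5 ha hconj (show 3 ≤ j + 1 by omega) (by omega)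
      have := hψ.step ha h hc (by omega) (by omega) hF hfnj
        (fun u hu => ha.map_gam h (by omega) (by omega) ψ le_rfl (by omega) u hu)
        (normalizes_autInduced ha h (by omega) (by omega) hF hfnj hψ.mem)
      rwa [Nat.add_sub_cancel] at this
  obtain ⟨ψ, hψ⟩ := hdown (n - 6) 2 (by omega) le_rfl
  exact false_of_sign_two ha h hp5 hev hne hc hz1ne hz1p hz1g hz1c hψ

end CfsgLib.Fus.EssentialElemCube
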