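import Cfsg.Agent.PGroup.MaxClass.Degree

/-!
Self-centralising elementary abelian subgroups of order `p ^ 3` with normaliser of order `p ^ 4` in a
`p`-group of maximal class.
-/

set_option autoImplicit false

open scoped commutatorElement

namespace CfsgLib.Fus.EssentialElemCube

open CfsgLib.PGroup.MaxClass

variable {G : Type*} [Group G] {p : ℕ}

/-- The subgroups in question. -/
structure Cube (p : ℕ) (E : Subgroup G) : Prop where
  card : Nat.card E = p ^ 3
  exp : ∀ x ∈ E, x ^ p = 1
  comm : ∀ x ∈ E, ∀ y ∈ E, Commute x y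
  self_centralizing : Subgroup.centralizer (E : Set G) ≤ E
  card_normalizer : Nat.card (Subgroup.normalizer (E : Set G)) = p ^ 4

/-- Some central order-`p ^ 2` part of the normaliser is moved by the second normaliser. -/
def IsMovingType (p n : ℕ) (E : Subgroup G) : Prop :=
  n ≤ 6 ∧ ∃ Z0 : Subgroup G, Z0 ≤ E ∧ Nat.card Z0 = p ^ 2 ∧
    (∀ z ∈ Z0, ∀ a ∈ Subgroup.normalizer (E : Set G), Commute z a) ∧
    ∃ y ∈ Subgroup.normalizer ((Subgroup.normalizer (E : Set G) : Subgroup G) : Set G),
      ∃ z ∈ Z0, ¬ Commute z y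

/-- The type inside the last two-step centraliser. -/
def IsLastType (p n : ℕ) (E : Subgroup G) : Prop :=
  Even n ∧ 6 ≤ n ∧ n ≤ p + 1 ∧ twoStep G (n - 2) ≠ twoStep G 2 ∧
    ∃ a ∈ E, a ∉ twoStep G 2 ∧ a ∈ twoStep G (n - 2) ∧ E = Subgroup.zpowers a ⊔ gam G (n - 2)

variable [Finite G] [Fact p.Prime] {n : ℕ}

theorem card_sup_le (A B : Subgroup G) [B.Normal] :
    Nat.card ↥(A ⊔ B) ≤ Nat.card A * Nat.card B := by
  rw [← Nat.card_prod]
  refine Nat.card_le_card_of_surjective
    (fun q : A × B => (⟨q.1 * q.2, Subgroup.mul_mem_sup q.1.2 q.2.2⟩ : ↥(A ⊔ B))) ?_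
  rintro ⟨x, hx⟩
  rw [Subgroup.mem_sup_of_normal_right] at hx
  obtain ⟨a, ha, b, hb, rfl⟩ := hx
  exact ⟨(⟨a, ha⟩, ⟨b, hb⟩), rfl⟩

theorem eq_of_le_of_lt {H K : Subgroup G} {k : ℕ} (hK : Nat.card K = p ^ (k + 1)) (hle : H ≤ K)
    {J : Subgroup G} (hJ : Nat.card J = p ^ k) (hJH : J ≤ H) {a : G} (ha : a ∈ H) (ha' : a ∉ J) :
    H = K := by
  have hp : p.Prime := Fact.out
  refine Subgroup.eq_of_le_of_card_ge hle ?_
  obtain ⟨i, -, hi⟩ := (Nat.dvd_prime_pow hp).1 (hK ▸ Subgroup.card_dvd_of_le hle)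
  have hlt : Nat.card J < Nat.card H := lt_of_le_of_ne (Subgroup.card_le_of_le hJH)
    fun he => ha' ((Subgroup.eq_of_le_of_card_ge hJH he.ge).ge ha)
  rw [hJ, hi, Nat.pow_lt_pow_iff_right hp.one_lt] at hlt
  rw [hK, hi]
  exact Nat.pow_le_pow_right hp.pos hlt

/-- A subgroup is normalised by what commutes it into itself. -/
theorem mem_normalizer_of_comm {H : Subgroup G} {g : G} (h : ∀ x ∈ H, ⁅g, x⁆ ∈ H) :
    g ∈ Subgroup.normalizer (H : Set G) := by
  refine Subgroup.mem_normalizer_iff_map_conj_eq.2 (Subgroup.eq_of_le_of_card_ge ?_ ?_)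
  · rintro _ ⟨x, hx, rfl⟩
    show g * x * g⁻¹ ∈ H
    rw [show g * x * g⁻¹ = ⁅g, x⁆ * x by rw [commutatorElement_def]; group]
    exact H.mul_mem (h x hx) hx
  · rw [Subgroup.card_map_of_injective (MulAut.conj g).injective]

variable (h : IsMaxCl p G n)
include h

/-- An element outside the first two-step centraliser is good below the last layer. -/
theorem mem_gam_of_commute {a : G} (ha : a ∉ twoStep G 2) {w : G} (hw : w ∈ gam G 2)
    (hc : Commute w a) : w ∈ gam G (n - 2) := by
  have key : ∀ j, 2 ≤ j → j + 2 ≤ n → w ∈ gam G j := by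
    intro j hj
    induction j, hj using Nat.le_induction with
    | base => exact fun _ => hw
    | succ j hj ih =>
      intro hjn
      by_contra hw'
      refine ha ?_
      rw [← h.stepsAgree j hj (by omega)]
      refine h.mem_twoStep_of_comm hj (ih (by omega)) hw' ?_
      rw [commutatorElement_eq_one_iff_commute.2 hc.symm]
      exact one_mem _
  exact key (n - 2) (by have := h.four_le; omega) (by have := h.four_le; omega)

theorem le_twoStep_or {E : Subgroup G} (hE : Cube p E) :
    E ≤ twoStep G 2 ∨ E ≤ twoStep G (n - 2) := by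
  have hp : p.Prime := Fact.out
  have hall : ∀ x ∈ E, x ∈ twoStep G 2 ∨ x ∈ twoStep G (n - 2) := by
    intro x hx
    by_contra hcon
    rw [not_or] at hcon
    have hgood := h.good_of_notMem hcon.1 hcon.2
    have hle : E ≤ Subgroup.zpowers x ⊔ gam G (n - 1) := fun y hy => h.centralizer_good_le hgood
      (Subgroup.mem_centralizer_singleton_iff.2 (hE.comm y hy x hx).eq)
    have h1 := (Subgroup.card_le_of_le hle).trans (card_sup_le _ _)
    rw [hE.card, Nat.card_zpowers, orderOf_eq_prime (hE.exp x hx) fun h1 => hcon.1 (h1 ▸ one_mem _),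
      h.card_gam (n - 1) (by have := h.four_le; omega) (by omega),
      show n - (n - 1) = 1 by have := h.four_le; omega, ← pow_succ',
      Nat.pow_le_pow_iff_right hp.one_lt] at h1
    omega
  by_contra hcon
  rw [not_or, SetLike.not_le_iff_exists, SetLike.not_le_iff_exists] at hcon
  obtain ⟨⟨a, ha, ha'⟩, b, hb, hb'⟩ := hcon
  have haP : a ∈ twoStep G (n - 2) := (hall a ha).resolve_left ha'
  have hbT : b ∈ twoStep G 2 := (hall b hb).resolve_right hb'
  rcases hall (a * b) (E.mul_mem ha hb) with h1 | h1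
  · exact ha' (by simpa using mul_mem h1 (inv_mem hbT))
  · exact hb' (by simpa using mul_mem (inv_mem haP) h1)

theorem commute_gam_of_twoStep {g y : G} (hg : g ∈ twoStep G (n - 2)) (hy : y ∈ gam G (n - 2)) :
    Commute g y := by
  rw [← commutatorElement_eq_one_iff_commute]
  exact h.mem_gam_one (by omega) (mem_twoStep.1 hg y hy)

theorem comm_twoStep {i : ℕ} (hi : 2 ≤ i) (hin : i + 3 ≤ n) {g t : G} (hg : g ∈ gam G i)
    (ht : t ∈ twoStep G 2) : ⁅g, t⁆ ∈ gam G (i + 2) :=
  h.comm_twoStep_gam h.stepsAgree hi hin (Subgroup.commutator_mem_commutator hg ht)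

theorem comm_kill {i j : ℕ} (hi : 1 ≤ i) (hj : 1 ≤ j) (hij : n ≤ i + j) {a b : G}
    (ha : a ∈ gam G i) (hb : b ∈ gam G j) : Commute a b :=
  commutatorElement_eq_one_iff_commute.1 (h.mem_gam_one hij (comm_mem_gam hi hj ha hb))

/-- The groups in the first two-step centraliser have small `n`. -/
theorem lt_of_le_twoStep {E : Subgroup G} (hE : Cube p E) (hp5 : 5 ≤ p) (hT : E ≤ twoStep G 2) :
    n ≤ p + 1 := by
  by_contra hlt
  obtain ⟨x, hx⟩ := h.exists_good
  have h4 := h.four_le
  have hD : E ≤ gam G (n - p + 1) := by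
    intro y hy
    have key : ∀ i, 2 ≤ i → i ≤ n - p + 1 → y ∈ gam G i := by
      intro i hi
      induction i, hi using Nat.le_induction with
      | base =>
        intro _
        by_contra hy2
        refine (h.pow_of_mem_twoStep hx (hT hy) hy2).2 (by omega) ?_
        rw [hE.exp y hy]
        exact one_mem _
      | succ i hi ih =>
        intro hin
        by_contra hy'
        refine h.pow_notMem_gam hx hi (ih (by omega)) hy' (by omega) ?_
        rw [hE.exp y hy]
        exact one_mem _
    exact key _ (by omega) le_rfl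
  have hle : gam G (p - 1) ≤ E := fun z hz => hE.self_centralizing
    (Subgroup.mem_centralizer_iff.2 fun y hy =>
      (comm_kill h (show 1 ≤ n - p + 1 by omega) (show 1 ≤ p - 1 by omega) (by omega) (hD hy) hz).eq)
  have hp : p.Prime := Fact.out
  have hc := Subgroup.card_le_of_le hle
  rw [h.card_gam (p - 1) (by omega) (by omega), hE.card, Nat.pow_le_pow_iff_right hp.one_lt] at hc
  have heq : gam G (p - 1) = E := Subgroup.eq_of_le_of_card_ge hle (by
    rw [h.card_gam (p - 1) (by omega) (by omega), hE.card]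
    exact Nat.pow_le_pow_right hp.pos (by omega))
  have hN := hE.card_normalizer
  rw [← heq, Subgroup.normalizer_eq_top_iff.2 (gam_normal _), Subgroup.card_top, h.card_eq] at hN
  have := Nat.pow_right_injective hp.two_le hN
  omega

theorem isLastType_of_not_le {E : Subgroup G} (hE : Cube p E) (h5 : 5 ≤ n) {a : G} (ha : a ∈ E)
    (haT : a ∉ twoStep G 2) (hP : E ≤ twoStep G (n - 2)) : IsLastType p n E := by
  have hne : twoStep G (n - 2) ≠ twoStep G 2 := fun he => haT (he ▸ hP ha)
  obtain ⟨hev, hle⟩ := h.exceptional_bounds h.stepsAgree h5 hne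
  obtain ⟨m, hm⟩ := hev
  refine ⟨⟨m, hm⟩, by omega, hle, hne, a, ha, haT, hP ha, ?_⟩
  have hsub : gam G (n - 2) ≤ E := fun z hz => hE.self_centralizing
    (Subgroup.mem_centralizer_iff.2 fun y hy => (commute_gam_of_twoStep h (hP hy) hz).eq)
  refine (eq_of_le_of_lt hE.card (sup_le (Subgroup.zpowers_le.2 ha) hsub) (J := gam G (n - 2)) ?_
    le_sup_right (Subgroup.mem_sup_left (Subgroup.mem_zpowers a)) ?_).symm
  · rw [h.card_gam (n - 2) (by omega) (by omega), show n - (n - 2) = 2 by omega]
  · exact fun h1 => haT (gam_two_le_twoStep (by norm_num) (gam_anti (by omega) h1))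

theorem isMovingType_of_center_le {E : Subgroup G} (hE : Cube p E) (h5 : 5 ≤ n)
    (hT : E ≤ twoStep G 2) (hZ : gam G (n - 2) ≤ E) : IsMovingType p n E := by
  have hp : p.Prime := Fact.out
  set N := Subgroup.normalizer (E : Set G) with hN
  rcases Nat.lt_or_ge n 6 with hn | hn
  swap
  · exfalso
    have hle : gam G (n - 4) ≤ N := fun g hg => mem_normalizer_of_comm fun y hy => hZ (by
      have := comm_twoStep h (show 2 ≤ n - 4 by omega) (by omega) hg (hT hy)
      rwa [show n - 4 + 2 = n - 2 by omega] at this)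
    have heq : gam G (n - 4) = N := Subgroup.eq_of_le_of_card_ge hle (by
      rw [hE.card_normalizer, h.card_gam (n - 4) (by omega) (by omega),
        show n - (n - 4) = 4 by omega])
    have hTN : twoStep G 2 ≤ N := fun t ht => mem_normalizer_of_comm fun y hy => hZ (by
      have hy' : y ∈ gam G (n - 4) := heq ▸ Subgroup.le_normalizer hy
      have := comm_twoStep h (show 2 ≤ n - 4 by omega) (by omega) hy' ht
      rw [show n - 4 + 2 = n - 2 by omega] at this
      rw [← commutatorElement_inv]
      exact inv_mem this)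
    have h1 := Subgroup.card_le_of_le hTN
    have h2 := (twoStep G 2).card_mul_index
    rw [h.index_twoStep le_rfl (by omega), h.card_eq,
      show p ^ n = p ^ (n - 1) * p by rw [← pow_succ]; congr 1; omega] at h2
    rw [Nat.eq_of_mul_eq_mul_right hp.pos h2, hE.card_normalizer,
      Nat.pow_le_pow_iff_right hp.one_lt] at h1
    omega
  obtain rfl : n = 5 := by omega
  have h3T : twoStep G 3 = twoStep G 2 := by
    by_contra hne
    have := (h.exceptional_bounds h.stepsAgree le_rfl hne).1
    exact absurd this (by decide)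
  obtain ⟨s, hs, hs'⟩ := h.exists_twoStep_notMem
  have hTdec : ∀ t ∈ twoStep G 2, ∃ a ∈ Subgroup.zpowers s, ∃ u ∈ gam G 2, a * u = t := by
    intro t ht
    rw [h.eq_of_index (h.index_twoStep le_rfl (by omega)) hs hs', Subgroup.mem_sup_of_normal_right]
      at ht
    exact ht
  let π := QuotientGroup.mk' (gam G 4)
  have hTT : ∀ t ∈ twoStep G 2, ∀ y ∈ twoStep G 2, Commute (π t) (π y) := by
    have h2 : ∀ u ∈ gam G 2, ∀ y ∈ twoStep G 2, Commute (π u) (π y) := fun u hu y hy => by
      rw [← commutatorElement_eq_one_iff_commute, ← map_commutatorElement]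
      exact (QuotientGroup.eq_one_iff _).2 (comm_twoStep h le_rfl (by omega) hu hy)
    intro t ht y hy
    obtain ⟨a, ha, u, hu, rfl⟩ := hTdec t ht
    obtain ⟨b, hb, v, hv, rfl⟩ := hTdec y hy
    obtain ⟨i, rfl⟩ := ha
    obtain ⟨j, rfl⟩ := hb
    rw [map_mul π (s ^ i) u]
    refine Commute.mul_left ?_ (h2 u hu _ hy)
    rw [map_mul]
    refine Commute.mul_right ?_ (h2 v hv _ ((twoStep G 2).zpow_mem hs i)).symm
    exact ((Commute.refl s).zpow_zpow i j).map π
  have hTN : twoStep G 2 ≤ N := fun t ht => mem_normalizer_of_comm fun y hy => hZ (gam_anti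
    (show 5 - 2 ≤ 4 by omega) ((QuotientGroup.eq_one_iff _).1 (by
      rw [← QuotientGroup.mk'_apply, map_commutatorElement, commutatorElement_eq_one_iff_commute]
      exact hTT t ht y (hT hy))))
  have hcT : Nat.card (twoStep G 2) = p ^ 4 := by
    have h2 := (twoStep G 2).card_mul_index
    rw [h.index_twoStep le_rfl (by omega), h.card_eq, pow_succ] at h2
    exact Nat.eq_of_mul_eq_mul_right hp.pos h2
  have hNT : twoStep G 2 = N :=
    Subgroup.eq_of_le_of_card_ge hTN (by rw [hE.card_normalizer, hcT])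
  refine ⟨by omega, gam G 3, hZ, h.card_gam 3 (by omega) (by omega), fun z hz t ht => ?_, ?_⟩
  · refine (commute_gam_of_twoStep h ?_ hz).symm
    show t ∈ twoStep G 3
    rw [h3T, hNT]
    exact ht
  · obtain ⟨x, hx⟩ := h.exists_good
    obtain ⟨z, hz, hz'⟩ := h.exists_notMem_succ (show 2 ≤ 3 by omega) (by omega)
    refine ⟨x, ?_, z, hz, fun hc => ?_⟩
    · show x ∈ Subgroup.normalizer (N : Set G)
      rw [← hNT]
      have : (twoStep G 2).Normal := CfsgLib.PGroup.normal_of_coatom h.isPGroup
        (CfsgLib.PGroup.isCoatom_of_index_eq (h.index_twoStep le_rfl (by omega)))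
      rw [Subgroup.normalizer_eq_top_iff.2 this]
      exact Subgroup.mem_top x
    · exact h.comm_notMem hx (show 2 ≤ 3 by omega) (by omega) hz hz'
        (commutatorElement_eq_one_iff_commute.2 hc ▸ one_mem _)

theorem isMovingType_of_center_not_le {E : Subgroup G} (hE : Cube p E) (h5 : 5 ≤ n)
    (hT : E ≤ twoStep G 2) (hZ : ¬ gam G (n - 2) ≤ E) : IsMovingType p n E := by
  have hp : p.Prime := Fact.out
  have hexc : twoStep G (n - 2) ≠ twoStep G 2 := fun he => hZ fun z hz => hE.self_centralizing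
    (Subgroup.mem_centralizer_iff.2 fun y hy => (commute_gam_of_twoStep h (he ▸ hT hy) hz).eq)
  obtain ⟨hev, -⟩ := h.exceptional_bounds h.stepsAgree h5 hexc
  obtain ⟨m, hm⟩ := hev
  have h6 : 6 ≤ n := by omega
  set N := Subgroup.normalizer (E : Set G) with hN
  obtain ⟨a, ha, ha2⟩ : ∃ a ∈ E, a ∉ gam G 2 := by
    by_contra hall
    push Not at hall
    exact hZ fun z hz => hE.self_centralizing (Subgroup.mem_centralizer_iff.2 fun y hy =>
      (comm_kill h (show 1 ≤ 2 by omega) (show 1 ≤ n - 2 by omega) (by omega) (hall y hy) hz).eq)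
  have hZ1 : gam G (n - 1) ≤ E := fun z hz => hE.self_centralizing
    (Subgroup.mem_centralizer_iff.2 fun y _ => ((h.commute_gam_last hz y).symm).eq)
  have h3N : gam G (n - 3) ≤ N := fun g hg => mem_normalizer_of_comm fun y hy => hZ1 (by
    have := comm_twoStep h (show 2 ≤ n - 3 by omega) (by omega) hg (hT hy)
    rwa [show n - 3 + 2 = n - 1 by omega] at this)
  have h3c : Nat.card (gam G (n - 3)) = p ^ 3 := by
    rw [h.card_gam (n - 3) (by omega) (by omega), show n - (n - 3) = 3 by omega]
  -- `N ∩ γ_2 = γ_(n-3)`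
  have hN2 : N ⊓ gam G 2 = gam G (n - 3) := by
    refine (Subgroup.eq_of_le_of_card_ge (le_inf h3N (gam_anti (by omega))) ?_).symm
    obtain ⟨i, -, hi⟩ := (Nat.dvd_prime_pow hp).1
      (hE.card_normalizer ▸ Subgroup.card_dvd_of_le (inf_le_left : N ⊓ gam G 2 ≤ N))
    have hlt : Nat.card ↥(N ⊓ gam G 2) < Nat.card N := lt_of_le_of_ne
      (Subgroup.card_le_of_le inf_le_left) fun he =>
        ha2 ((Subgroup.eq_of_le_of_card_ge inf_le_left he.ge).ge (Subgroup.le_normalizer ha)).2
    rw [hi, hE.card_normalizer, Nat.pow_lt_pow_iff_right hp.one_lt] at hlt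
    rw [hi, h3c]
    exact Nat.pow_le_pow_right hp.pos (by omega)
  set W := E ⊓ gam G 2 with hW
  have hWc : Nat.card W = p ^ 2 := by
    obtain ⟨i, -, hi⟩ := (Nat.dvd_prime_pow hp).1
      (hE.card ▸ Subgroup.card_dvd_of_le (inf_le_left : W ≤ E))
    have hlt : Nat.card W < Nat.card E := lt_of_le_of_ne (Subgroup.card_le_of_le inf_le_left)
      fun he => ha2 ((Subgroup.eq_of_le_of_card_ge (inf_le_left : W ≤ E) he.ge).ge ha).2
    have h1 : (gam G 2).relIndex E ≤ (gam G 2).relIndex (twoStep G 2) :=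
      Subgroup.relIndex_le_of_le_right hT Subgroup.index_ne_zero_of_finite
    have h2 : (gam G 2).relIndex (twoStep G 2) = p := by
      have := Subgroup.relIndex_mul_index (gam_two_le_twoStep (G := G) (j := 2) (by norm_num))
      rw [h.index_twoStep le_rfl (by omega), h.index_gam_two, sq] at this
      exact Nat.eq_of_mul_eq_mul_right hp.pos this
    have h3 : Nat.card W * (gam G 2).relIndex E = Nat.card E := by
      rw [← Subgroup.inf_relIndex_left, ← hW,
        ← Nat.card_congr (Subgroup.subgroupOfEquivOfLe (inf_le_left : W ≤ E)).toEquiv]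
      exact (W.subgroupOf E).card_mul_index
    have h4 : Nat.card E ≤ p ^ i * p := by
      rw [← h3, hi]
      exact Nat.mul_le_mul_left _ (h1.trans h2.le)
    rw [hi, hE.card, Nat.pow_lt_pow_iff_right hp.one_lt] at hlt
    rw [hE.card, ← pow_succ, Nat.pow_le_pow_iff_right hp.one_lt] at h4
    rw [hi, show i = 2 by omega]
  have hW3 : W ≤ gam G (n - 3) := hN2 ▸ inf_le_inf_right _ Subgroup.le_normalizer
  obtain ⟨w, hw, hw'⟩ : ∃ w ∈ W, w ∉ gam G (n - 2) := by
    by_contra hall
    push Not at hall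
    refine hZ ?_
    rw [← Subgroup.eq_of_le_of_card_ge (hall : W ≤ gam G (n - 2)) (by
      rw [hWc, h.card_gam (n - 2) (by omega) (by omega), show n - (n - 2) = 2 by omega])]
    exact inf_le_left
  have hEsup : Subgroup.zpowers a ⊔ W = E :=
    eq_of_le_of_lt hE.card (sup_le (Subgroup.zpowers_le.2 ha) inf_le_left) hWc le_sup_right
      (Subgroup.mem_sup_left (Subgroup.mem_zpowers a)) fun h1 => ha2 h1.2
  have haT := hT ha
  rcases Nat.lt_or_ge n 8 with hn | hn
  swap
  · -- `γ_(n-5)` would be too large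
    exfalso
    have habel : ∀ {u v : G}, u ∈ gam G (n - 5) → v ∈ gam G (n - 3) → Commute u v := fun hu hv =>
      comm_kill h (by omega) (by omega) (by omega) hu hv
    have hq : ∀ g ∈ gam G (n - 5), ⁅g, a⁆ ∈ gam G (n - 3) := fun g hg => by
      have := comm_twoStep h (show 2 ≤ n - 5 by omega) (by omega) hg haT
      rwa [show n - 5 + 2 = n - 3 by omega] at this
    haveI : (W.subgroupOf (gam G (n - 3))).Normal := ⟨fun v hv u => by
      rw [Subgroup.mem_subgroupOf] at hv ⊢
      rw [Subgroup.coe_mul, Subgroup.coe_mul, Subgroup.coe_inv,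
        (habel (gam_anti (show n - 5 ≤ n - 3 by omega) u.2) (hW3 hv)).eq, mul_inv_cancel_right]
      exact hv⟩
    let f : gam G (n - 5) →* gam G (n - 3) ⧸ W.subgroupOf (gam G (n - 3)) :=
      (QuotientGroup.mk' _).comp
        { toFun := fun g => ⟨⁅(g : G), a⁆, hq g g.2⟩
          map_one' := Subtype.ext (commutatorElement_one_left a)
          map_mul' := fun g g' => Subtype.ext (by
            show ⁅(g : G) * g', a⁆ = ⁅(g : G), a⁆ * ⁅(g' : G), a⁆
            rw [show ⁅(g : G) * g', a⁆ = g * ⁅(g' : G), a⁆ * (g : G)⁻¹ * ⁅(g : G), a⁆ by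
                simp only [commutatorElement_def]; group,
              (habel g.2 (hq g' g'.2)).eq, mul_inv_cancel_right]
            exact ((habel (gam_anti (by omega) (hq g' g'.2)) (hq g g.2))).eq) }
    have hker : Nat.card f.ker ≤ Nat.card (gam G (n - 3)) := by
      refine Nat.card_le_card_of_injective (fun g : f.ker => ⟨((g : gam G (n - 5)) : G), ?_⟩)
        fun g g' he => Subtype.ext (Subtype.ext (congrArg (fun x : gam G (n - 3) => (x : G)) he))
      refine hN2.le ⟨mem_normalizer_of_comm fun y hy => ?_, gam_anti (by omega) (g : gam G (n - 5)).2⟩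
      have hga : ⁅((g : gam G (n - 5)) : G), a⁆ ∈ W := by
        have := (QuotientGroup.eq_one_iff _).1 (MonoidHom.mem_ker.1 g.2)
        exact Subgroup.mem_subgroupOf.1 this
      set u : G := ((g : gam G (n - 5)) : G)
      have hu : u ∈ gam G (n - 5) := (g : gam G (n - 5)).2
      have hle : E ≤ E.comap (MulAut.conj u).toMonoidHom := by
        refine hEsup.ge.trans (sup_le (Subgroup.zpowers_le.2 ?_) fun v hv => ?_)
        · show u * a * u⁻¹ ∈ E
          rw [show u * a * u⁻¹ = ⁅u, a⁆ * a by rw [commutatorElement_def]; group]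
          exact E.mul_mem hga.1 ha
        · show u * v * u⁻¹ ∈ E
          rw [(habel hu (hW3 hv)).eq, mul_inv_cancel_right]
          exact hv.1
      rw [show ⁅u, y⁆ = u * y * u⁻¹ * y⁻¹ from commutatorElement_def u y]
      exact E.mul_mem (hle hy) (E.inv_mem hy)
    have hidx : f.ker.index ≤ p := by
      rw [Subgroup.index_ker]
      refine (Subgroup.card_le_card_group _).trans ?_
      rw [← Subgroup.index_eq_card]
      have := (W.subgroupOf (gam G (n - 3))).card_mul_index
      rw [Nat.card_congr (Subgroup.subgroupOfEquivOfLe hW3).toEquiv, hWc, h3c,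
        pow_succ] at this
      exact (Nat.eq_of_mul_eq_mul_left (pow_pos hp.pos 2) this).le
    have h5c := f.ker.card_mul_index
    rw [h.card_gam (n - 5) (by omega) (by omega), show n - (n - 5) = 5 by omega] at h5c
    have hle := Nat.mul_le_mul hker hidx
    rw [h5c, h3c, ← pow_succ, Nat.pow_le_pow_iff_right hp.one_lt] at hle
    omega
  obtain rfl : n = 6 := by omega
  have hNsup : E ⊔ gam G 3 = N :=
    eq_of_le_of_lt hE.card_normalizer (sup_le Subgroup.le_normalizer h3N) h3c le_sup_right
      (Subgroup.mem_sup_left ha) fun h1 => ha2 (gam_anti (by omega) h1)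
  refine ⟨le_rfl, W, inf_le_left, hWc, fun z hz t ht => ?_, ?_⟩
  · have hle : N ≤ Subgroup.centralizer ({z} : Set G) := hNsup ▸ sup_le
      (fun e he => Subgroup.mem_centralizer_singleton_iff.2 (hE.comm e he z hz.1).eq)
      (fun u hu => Subgroup.mem_centralizer_singleton_iff.2
        (comm_kill h (show 1 ≤ 3 by omega) (show 1 ≤ 3 by omega) le_rfl hu (hW3 hz)).eq)
    exact (Subgroup.mem_centralizer_singleton_iff.1 (hle ht)).symm
  · obtain ⟨x, hx⟩ := h.exists_good
    obtain ⟨s, hs, hsm, hs1, hsn⟩ := h.exists_chain hx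
    refine ⟨s 2, ?_, w, hw, fun hc => ?_⟩
    · refine mem_normalizer_of_comm fun t ht => h3N ?_
      have hle : N ≤ twoStep G 2 := hNsup ▸ sup_le hT
        ((gam_anti (by omega)).trans (gam_two_le_twoStep (by norm_num)))
      exact gam_anti (show 3 ≤ 4 by omega) (comm_twoStep h le_rfl (by omega) (hsm 2 (by omega)) (hle ht))
    · have h23 : ⁅s 2, s 3⁆ ≠ 1 := by
        intro h1
        have h2 := h.pairing_alternate h.stepsAgree hs hsm hs1 h5 (i := 1) (j := 3) le_rfl (by omega)
          (by omega)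
        rw [h1, one_mul] at h2
        exact h.pairing_one_ne hsm hs1 hsn hexc h2
      obtain ⟨e, he⟩ := h.exists_pow (show 2 ≤ 3 by omega) (hW3 hw) hw' (hsm 3 (by omega))
      refine h23 (commutatorElement_eq_one_iff_commute.2 ?_)
      rw [← mul_inv_cancel_left (w ^ e) (s 3)]
      exact ((hc.symm).pow_right e).mul_right
        (comm_kill h (show 1 ≤ 2 by omega) (show 1 ≤ 4 by omega) le_rfl (hsm 2 (by omega)) he)

/-- The classification. -/
theorem classify {E : Subgroup G} (hE : Cube p E) (hp5 : 5 ≤ p) (h5 : 5 ≤ n) :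
    IsMovingType p n E ∨ IsLastType p n E := by
  by_cases hT : E ≤ twoStep G 2
  · left
    have := lt_of_le_twoStep h hE hp5 hT
    by_cases hZ : gam G (n - 2) ≤ E
    · exact isMovingType_of_center_le h hE h5 hT hZ
    · exact isMovingType_of_center_not_le h hE h5 hT hZ
  · right
    obtain ⟨a, ha, haT⟩ := SetLike.not_le_iff_exists.1 hT
    exact isLastType_of_not_le h hE h5 ha haT ((le_twoStep_or h hE).resolve_left hT)

end CfsgLib.Fus.EssentialElemCube
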