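import Cfsg.Agent.Fus.EssentialElemCube.Transvection
import Cfsg.Agent.PGroup.Commutator

/-!
Automorphisms of the normaliser (of order `p ^ 4`) of an essential elementary abelian group of order
`p ^ 3`.
-/

set_option autoImplicit false

open scoped commutatorElement

namespace CfsgLib.Fus.EssentialElemCube

open CfsgLib.Fus.EssentialRankTwo CfsgLib.Fus.EssentialSmall

variable {N : Type*} [Group N]

/-- The action on the quotient by the centre. -/
def topHom : MulAut N →* MulAut (N ⧸ Subgroup.center N) where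
  toFun r := QuotientGroup.congr (Subgroup.center N) (Subgroup.center N) r
    (Subgroup.characteristic_iff_map_eq.1 inferInstance r)
  map_one' := MulEquiv.ext fun q => QuotientGroup.induction_on q fun _ => rfl
  map_mul' r r' := MulEquiv.ext fun q => QuotientGroup.induction_on q fun _ => rfl

theorem topHom_mk (r : MulAut N) (g : N) :
    topHom r (g : N ⧸ Subgroup.center N) = ((r g : N) : N ⧸ Subgroup.center N) := rfl

variable {p : ℕ} [Fact p.Prime]

theorem exists_zmod_pow {V : Type*} [Group V] {f : V} (hf : orderOf f = p) {v : V}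
    (hv : v ∈ Subgroup.zpowers f) : ∃ c : ZMod p, v = f ^ c.val := by
  obtain ⟨i, hi⟩ := hv
  refine ⟨(i : ZMod p), ?_⟩
  rw [← show f ^ i = v from hi, ← zpow_natCast f, zpow_eq_zpow_iff_modEq, hf,
    ← ZMod.intCast_eq_intCast_iff]
  simp

theorem eq_zero_of_pow_val_eq_one {V : Type*} [Group V] {f : V} (hf : orderOf f = p) {c : ZMod p}
    (h : f ^ c.val = 1) : c = 0 := by
  rw [← orderOf_dvd_iff_pow_eq_one, hf] at h
  exact (ZMod.val_eq_zero c).1 (Nat.eq_zero_of_dvd_of_lt h (ZMod.val_lt c))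

/-- Two independent elements generate a group of order `p ^ 2`. -/
theorem eq_top_of_mem {W : Type*} [Group W] [Finite W] (hW : Nat.card W = p ^ 2) {f g : W}
    (hf : f ≠ 1) (hfp : f ^ p = 1) (hg : g ∉ Subgroup.zpowers f) {K : Subgroup W} (h1 : f ∈ K)
    (h2 : g ∈ K) : K = ⊤ := by
  have hp : p.Prime := Fact.out
  refine Subgroup.eq_top_of_card_eq K ?_
  obtain ⟨i, hi, hic⟩ := (Nat.dvd_prime_pow hp).1 (hW ▸ K.card_subgroup_dvd_card)
  have hle : Subgroup.zpowers f ≤ K := Subgroup.zpowers_le.2 h1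
  have hlt : Nat.card (Subgroup.zpowers f) < Nat.card K := lt_of_le_of_ne (Subgroup.card_le_of_le hle)
    fun he => hg ((Subgroup.eq_of_le_of_card_ge hle he.ge).ge h2)
  rw [Nat.card_zpowers, orderOf_eq_prime hfp hf, hic] at hlt
  nth_rewrite 1 [← pow_one p] at hlt
  rw [Nat.pow_lt_pow_iff_right hp.one_lt] at hlt
  rw [hic, hW, show i = 2 by omega]

/-- The torus generated by two transvections of a group of order `p ^ 2` with distinct centres. -/
theorem exists_torus_two {W : Type*} [Group W] [Finite W] (hc : ∀ x y : W, x * y = y * x)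
    (hexp : ∀ x : W, x ^ p = 1) {a b : MulAut W} {f f2 : W} (haf : a f = f) {s' : ZMod p}
    (hs' : s' ≠ 0) (haf2 : a f2 = f2 * f ^ s'.val) (hbf2 : b f2 = f2) {s : ZMod p} (hs : s ≠ 0)
    (hbf : b f = f * f2 ^ s.val) (l : ZMod p) (hl : l ≠ 0) :
    ∃ i1 i2 i3 i4 i5 i6 : ℕ,
      (a ^ i1 * b ^ i2 * a ^ i3 * (a ^ i4 * b ^ i5 * a ^ i6)) f = f ^ l.val ∧
      (a ^ i1 * b ^ i2 * a ^ i3 * (a ^ i4 * b ^ i5 * a ^ i6)) f2 = f2 ^ (l⁻¹ : ZMod p).val := by
  haveI : Fact (1 < p) := ⟨(Fact.out : p.Prime).one_lt⟩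
  have hA : ∀ c : ZMod p, (a ^ c.val) f2 = f2 * f ^ (c * s').val := fun c => by
    have hd : disp a f2 = f ^ s'.val := by rw [disp, haf2, inv_mul_cancel_left]
    rw [pow_apply_of_fixed (by rw [hd, map_pow, haf]), hd, mul_comm c, ← pow_val_mul (hexp f)]
  have hB : ∀ c : ZMod p, (b ^ c.val) f = f * f2 ^ (c * s).val := fun c => by
    have hd : disp b f = f2 ^ s.val := by rw [disp, hbf, inv_mul_cancel_left]
    rw [pow_apply_of_fixed (by rw [hd, map_pow, hbf2]), hd, mul_comm c, ← pow_val_mul (hexp f2)]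
  have hW : ∀ c : ZMod p, c ≠ 0 →
      (a ^ (c / s').val * b ^ (-c⁻¹ / s).val * a ^ (c / s').val) f = f2 ^ (-c⁻¹ : ZMod p).val ∧
      (a ^ (c / s').val * b ^ (-c⁻¹ / s).val * a ^ (c / s').val) f2 = f ^ c.val := by
    intro c hc0
    have ea : c / s' * s' = c := div_mul_cancel₀ c hs'
    have eb : -c⁻¹ / s * s = -c⁻¹ := div_mul_cancel₀ _ hs
    constructor
    · rw [MulAut.mul_apply, MulAut.mul_apply, pow_apply_eq_self haf, hB, eb, map_mul, map_pow,
        pow_apply_eq_self haf, hA, ea, (show Commute f2 (f ^ c.val) from hc _ _).mul_pow,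
        ← pow_val_mul (hexp f), show c * -c⁻¹ = (-1 : ZMod p) by field_simp, ← mul_assoc, hc f,
        mul_assoc]
      conv_rhs => rw [← mul_one (f2 ^ _)]
      congr 1
      nth_rewrite 1 [← pow_one f]
      rw [← ZMod.val_one p, ← pow_val_add (hexp f), add_neg_cancel, ZMod.val_zero, pow_zero]
    · rw [MulAut.mul_apply, MulAut.mul_apply, hA, ea, map_mul, map_pow, pow_apply_eq_self hbf2, hB,
        eb, (show Commute f (f2 ^ _) from hc _ _).mul_pow, ← pow_val_mul (hexp f2),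
        show -c⁻¹ * c = (-1 : ZMod p) by field_simp, map_mul, map_mul, map_pow, map_pow,
        pow_apply_eq_self haf, hA, ea, (show Commute f2 (f ^ _) from hc _ _).mul_pow,
        ← pow_val_mul (hexp f)]
      have e0 : f2 * f2 ^ (-1 : ZMod p).val = 1 := by
        nth_rewrite 1 [← pow_one f2]
        rw [← ZMod.val_one p, ← pow_val_add (hexp f2), add_neg_cancel, ZMod.val_zero, pow_zero]
      have e0' : f ^ c.val * f ^ (c * -1 : ZMod p).val = 1 := by
        rw [← pow_val_add (hexp f), mul_neg, mul_one, add_neg_cancel, ZMod.val_zero, pow_zero]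
      calc f2 * f ^ c.val * (f ^ c.val * (f2 ^ (-1 : ZMod p).val * f ^ (c * -1 : ZMod p).val))
          = f2 * f ^ c.val * (f2 ^ (-1 : ZMod p).val * (f ^ c.val * f ^ (c * -1 : ZMod p).val)) := by
            rw [← mul_assoc (f ^ c.val), hc (f ^ c.val), mul_assoc (f2 ^ _)]
        _ = f ^ c.val := by
            rw [e0', mul_one, hc f2, mul_assoc, e0, mul_one]
  obtain ⟨h1, h2⟩ := hW l hl
  obtain ⟨h3, h4⟩ := hW (-1) (neg_ne_zero.2 one_ne_zero)
  refine ⟨(l / s').val, (-l⁻¹ / s).val, (l / s').val, ((-1 : ZMod p) / s').val,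
    (-(-1 : ZMod p)⁻¹ / s).val, ((-1 : ZMod p) / s').val, ?_, ?_⟩
  · rw [MulAut.mul_apply, h3, map_pow, h2, ← pow_val_mul (hexp f)]
    congr 2
    field_simp
  · rw [MulAut.mul_apply, h4, map_pow, h1, ← pow_val_mul (hexp f2)]
    congr 2
    field_simp

/-- What is known about `N` and the automisers. -/
structure NData (p : ℕ) (N : Type*) [Group N] (R : Subgroup (MulAut N)) (P : Subgroup R)
    (e w e1 : N) : Prop where
  card_center : Nat.card (Subgroup.center N) = p ^ 2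
  card_quot : Nat.card (N ⧸ Subgroup.center N) = p ^ 2
  exp_quot : ∀ q : N ⧸ Subgroup.center N, q ^ p = 1
  e_mem : e ∈ Subgroup.center N
  w_mem : w ∈ Subgroup.center N
  e_ne : e ≠ 1
  e_pow : e ^ p = 1
  w_pow : w ^ p = 1
  w_notMem : w ∉ Subgroup.zpowers e
  comm_mem : ∀ g h : N, ⁅g, h⁆ ∈ Subgroup.zpowers e
  comm_ne : ∃ g : N, ⁅g, e1⁆ ≠ 1
  isPGroup : IsPGroup p P
  conj_into : ∀ κ : R, (∃ k, κ ^ p ^ k = 1) → ∃ c : R, c * κ * c⁻¹ ∈ P
  of_stabilizes : ∀ r : R, topHom (r : MulAut N) = 1 →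
    (∀ z ∈ Subgroup.center N, (r : MulAut N) z = z) → r ∈ P
  fixes : ∀ β ∈ P,
    topHom (β : MulAut N) (e1 : N ⧸ Subgroup.center N) ∈ Subgroup.zpowers (e1 : N ⧸ Subgroup.center N) →
    ∀ z ∈ Subgroup.center N, (β : MulAut N) z = z
  torus : ∀ l : ZMod p, l ≠ 0 → ∃ r : R, (r : MulAut N) e = e ^ l.val ∧ (r : MulAut N) w = w ∧
    (r : MulAut N) e1 = e1 ^ (l⁻¹ : ZMod p).val ∧
    ∀ g : N, (r : MulAut N) g * (g ^ (l * l).val)⁻¹ ∈ Subgroup.zpowers e1 ⊔ Subgroup.center N

namespace NData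

variable [Finite N] {R : Subgroup (MulAut N)} {P : Subgroup R} {e w e1 : N}
  (h : NData p N R P e w e1)
include h

theorem e1_notMem : e1 ∉ Subgroup.center N := fun hc => by
  obtain ⟨g, hg⟩ := h.comm_ne
  exact hg (commutatorElement_eq_one_iff_mul_comm.2 (Subgroup.mem_center_iff.1 hc g))

theorem mk_e1_ne : (e1 : N ⧸ Subgroup.center N) ≠ 1 := fun hc =>
  h.e1_notMem ((QuotientGroup.eq_one_iff _).1 hc)

theorem quot_comm (x y : N ⧸ Subgroup.center N) : x * y = y * x :=
  (IsPGroup.isMulCommutative_of_card_eq_prime_sq h.card_quot).is_comm.comm x y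

theorem center_eq : Subgroup.zpowers e ⊔ Subgroup.zpowers w = Subgroup.center N := by
  have hp : p.Prime := Fact.out
  have hle : Subgroup.zpowers e ⊔ Subgroup.zpowers w ≤ Subgroup.center N :=
    sup_le (Subgroup.zpowers_le.2 h.e_mem) (Subgroup.zpowers_le.2 h.w_mem)
  refine Subgroup.eq_of_le_of_card_ge hle ?_
  obtain ⟨i, -, hi⟩ := (Nat.dvd_prime_pow hp).1 (h.card_center ▸ Subgroup.card_dvd_of_le hle)
  have hlt : Nat.card (Subgroup.zpowers e) < Nat.card ↥(Subgroup.zpowers e ⊔ Subgroup.zpowers w) :=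
    lt_of_le_of_ne (Subgroup.card_le_of_le le_sup_left) fun he => h.w_notMem
      ((Subgroup.eq_of_le_of_card_ge le_sup_left he.ge).ge (Subgroup.mem_sup_right (Subgroup.mem_zpowers w)))
  rw [Nat.card_zpowers, orderOf_eq_prime h.e_pow h.e_ne, hi] at hlt
  nth_rewrite 1 [← pow_one p] at hlt
  rw [Nat.pow_lt_pow_iff_right hp.one_lt] at hlt
  rw [h.card_center, hi]
  exact Nat.pow_le_pow_right hp.pos hlt

theorem fix_center {r : MulAut N} (he : r e = e) (hw : r w = w) {z : N}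
    (hz : z ∈ Subgroup.center N) : r z = z := by
  have hle : Subgroup.center N ≤ MonoidHom.eqLocus (r : N →* N) (MonoidHom.id N) :=
    h.center_eq ▸ sup_le (Subgroup.zpowers_le.2 he) (Subgroup.zpowers_le.2 hw)
  exact hle hz

theorem center_mem (r : MulAut N) {z : N} (hz : z ∈ Subgroup.center N) : r z ∈ Subgroup.center N := by
  have := Subgroup.characteristic_iff_map_eq.1 (inferInstance : (Subgroup.center N).Characteristic) r
  rw [← this]
  exact ⟨z, hz, rfl⟩

theorem map_e (r : MulAut N) : r e ∈ Subgroup.zpowers e := by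
  obtain ⟨g, hg⟩ := h.comm_ne
  obtain ⟨i, hi⟩ : e ∈ Subgroup.zpowers ⁅g, e1⁆ := by
    have hle : Subgroup.zpowers ⁅g, e1⁆ ≤ Subgroup.zpowers e :=
      Subgroup.zpowers_le.2 (h.comm_mem g e1)
    have hpw : ⁅g, e1⁆ ^ p = 1 := by
      obtain ⟨j, hj⟩ := h.comm_mem g e1
      rw [← show e ^ j = _ from hj, ← zpow_natCast, ← zpow_mul, mul_comm, zpow_mul, zpow_natCast,
        h.e_pow, one_zpow]
    rw [Subgroup.eq_of_le_of_card_ge hle (by
      rw [Nat.card_zpowers, Nat.card_zpowers, orderOf_eq_prime h.e_pow h.e_ne,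
        orderOf_eq_prime hpw hg])]
    exact Subgroup.mem_zpowers e
  have hi' : ⁅g, e1⁆ ^ i = e := hi
  have h1 := congrArg r hi'
  rw [map_zpow, map_commutatorElement] at h1
  rw [← h1]
  exact Subgroup.zpow_mem _ (h.comm_mem _ _) i

/-- A `p`-element fixes `e` and moves `w` along `e`. -/
theorem p_elem_center {α : R} {k : ℕ} (hα : α ^ p ^ k = 1) :
    (α : MulAut N) e = e ∧ w⁻¹ * (α : MulAut N) w ∈ Subgroup.zpowers e := by
  have hp : p.Prime := Fact.out
  have hα' : (α : MulAut N) ^ p ^ k = 1 := congrArg Subtype.val hα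
  refine ⟨fix_of_stabilizes hα' (orderOf_eq_prime h.e_pow h.e_ne) (h.map_e _), ?_⟩
  have hn : ((Subgroup.zpowers e).subgroupOf (Subgroup.center N)).Normal := ⟨fun x hx y => by
    rwa [show y * x * y⁻¹ = x from Subtype.ext (by
      simp [(Subgroup.mem_center_iff.1 x.2 (y : N))])]⟩
  refine inv_mul_mem_of_relIndex hα' hn ?_ (fun x hx => h.center_mem _ hx) (fun x hx => ?_) w h.w_mem
  · rw [relIndex_eq_of_card (Subgroup.zpowers_le.2 h.e_mem) (m := p) (by
      rw [h.card_center, Nat.card_zpowers, orderOf_eq_prime h.e_pow h.e_ne, sq])]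
  · obtain ⟨i, rfl⟩ := hx
    rw [map_zpow]
    exact Subgroup.zpow_mem _ (h.map_e _) i

/-- The fixed line of an element of `P` moving the line of `e1`. -/
theorem exists_line {α : R} (hα : α ∈ P)
    (hmove : topHom (α : MulAut N) (e1 : N ⧸ Subgroup.center N) ∉
      Subgroup.zpowers (e1 : N ⧸ Subgroup.center N)) :
    ∃ f : N ⧸ Subgroup.center N, f ≠ 1 ∧ (e1 : N ⧸ Subgroup.center N) ∉ Subgroup.zpowers f ∧
      f ∉ Subgroup.zpowers (e1 : N ⧸ Subgroup.center N) ∧
      topHom (α : MulAut N) f = f ∧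
      topHom (α : MulAut N) (e1 : N ⧸ Subgroup.center N) = e1 * f ∧
      ∀ β ∈ P, topHom (β : MulAut N) f = f ∧ ∃ j : ℕ, topHom (β : MulAut N) = topHom (α : MulAut N) ^ j := by
  have hp : p.Prime := Fact.out
  set q1 : N ⧸ Subgroup.center N := (e1 : N ⧸ Subgroup.center N)
  set u := topHom (α : MulAut N)
  set U := P.map (topHom.comp R.subtype) with hU
  have hUp : IsPGroup p U := h.isPGroup.map _
  have h1 : (1 : N ⧸ Subgroup.center N) ∈ MulAction.fixedPoints U (N ⧸ Subgroup.center N) :=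
    fun g => map_one (g : MulAut (N ⧸ Subgroup.center N))
  obtain ⟨f', hf', hne⟩ := hUp.exists_fixed_point_of_prime_dvd_card_of_fixed_point
    (N ⧸ Subgroup.center N) (h.card_quot ▸ dvd_pow_self p two_ne_zero) h1
  have hmem : ∀ β ∈ P, topHom (β : MulAut N) f' = f' := fun β hβ => hf' ⟨_, β, hβ, rfl⟩
  have hf'1 : f' ≠ 1 := fun hh => hne hh.symm
  have hq1 : q1 ∉ Subgroup.zpowers f' := fun hm => by
    refine hmove ?_
    obtain ⟨i, hi⟩ := hm
    rw [← show f' ^ i = q1 from hi, map_zpow, hmem α hα]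
    exact Subgroup.mem_zpowers _
  have hn : ∀ K : Subgroup (N ⧸ Subgroup.center N), (K.subgroupOf ⊤).Normal := fun K =>
    ⟨fun x hx y => by rwa [show y * x * y⁻¹ = x from Subtype.ext (by
      simp [h.quot_comm (y : N ⧸ Subgroup.center N) x])]⟩
  have hshift : ∀ β ∈ P, q1⁻¹ * topHom (β : MulAut N) q1 ∈ Subgroup.zpowers f' := by
    intro β hβ
    obtain ⟨k, hk⟩ := h.isPGroup ⟨β, hβ⟩
    have hk' : topHom (β : MulAut N) ^ p ^ k = 1 := by
      have hb : (β : MulAut N) ^ p ^ k = 1 := congrArg (fun x : P => ((x : R) : MulAut N)) hk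
      rw [← map_pow, hb, map_one]
    refine inv_mul_mem_of_relIndex (M := ⊤) hk' (hn _) ?_ (fun _ _ => Subgroup.mem_top _) ?_ _
      (Subgroup.mem_top _)
    · rw [relIndex_eq_of_card le_top (m := p) (by rw [Subgroup.card_top, h.card_quot, Nat.card_zpowers,
        orderOf_eq_prime (h.exp_quot f') hf'1, sq])]
    · rintro _ ⟨i, rfl⟩
      rw [map_zpow, hmem β hβ]
      exact Subgroup.zpow_mem _ (Subgroup.mem_zpowers f') i
  set f := q1⁻¹ * u q1 with hf
  have hfne : f ≠ 1 := fun hh => hmove (by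
    rw [← inv_mul_eq_one.1 hh]; exact Subgroup.mem_zpowers q1)
  have hff : f ∈ Subgroup.zpowers f' := hshift α hα
  have hzz : Subgroup.zpowers f = Subgroup.zpowers f' :=
    Subgroup.eq_of_le_of_card_ge (Subgroup.zpowers_le.2 hff) (by
      rw [Nat.card_zpowers, Nat.card_zpowers, orderOf_eq_prime (h.exp_quot f') hf'1,
        orderOf_eq_prime (h.exp_quot f) hfne])
  have hfix : ∀ β ∈ P, topHom (β : MulAut N) f = f := by
    intro β hβ
    obtain ⟨i, hi⟩ := hff
    rw [← show f' ^ i = f from hi, map_zpow, hmem β hβ]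
  refine ⟨f, hfne, by rwa [hzz], fun hm => hmove ?_, hfix α hα, (mul_inv_cancel_left _ _).symm,
    fun β hβ => ⟨hfix β hβ, ?_⟩⟩
  · rw [show topHom (α : MulAut N) q1 = q1 * f from (mul_inv_cancel_left _ _).symm]
    exact Subgroup.mul_mem _ (Subgroup.mem_zpowers _) hm
  · have hsh := hshift β hβ
    rw [← hzz, ← mem_powers_iff_mem_zpowers] at hsh
    obtain ⟨j, hj⟩ := hsh
    refine ⟨j, MulEquiv.ext fun q => ?_⟩
    have htop := eq_top_of_mem h.card_quot hfne (h.exp_quot f) (by rwa [hzz] : q1 ∉ Subgroup.zpowers f)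
      (K := MonoidHom.eqLocus (topHom (β : MulAut N) : N ⧸ Subgroup.center N →* N ⧸ Subgroup.center N)
        ((u ^ j : MulAut (N ⧸ Subgroup.center N)) : N ⧸ Subgroup.center N →* N ⧸ Subgroup.center N))
      (by
        show topHom (β : MulAut N) f = (u ^ j) f
        rw [hfix β hβ, pow_apply_eq_self (hfix α hα)])
      (by
        show topHom (β : MulAut N) q1 = (u ^ j) q1
        rw [pow_apply_of_fixed (by show u f = f; exact hfix α hα)]
        exact inv_mul_eq_iff_eq_mul.1 hj.symm)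
    have hq : q ∈ MonoidHom.eqLocus (topHom (β : MulAut N) : N ⧸ Subgroup.center N →* N ⧸ Subgroup.center N)
        ((u ^ j : MulAut (N ⧸ Subgroup.center N)) : N ⧸ Subgroup.center N →* N ⧸ Subgroup.center N) :=
      htop ▸ Subgroup.mem_top q
    exact hq

/-- An automorphism normalising the transvection of `α` with prescribed scalars. -/
theorem exists_adapted {α : R} (hα : α ∈ P) {f : N ⧸ Subgroup.center N} (hf : f ≠ 1)
    (hq1 : (e1 : N ⧸ Subgroup.center N) ∉ Subgroup.zpowers f)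
    (hfe : f ∉ Subgroup.zpowers (e1 : N ⧸ Subgroup.center N))
    (hαf : topHom (α : MulAut N) f = f)
    (hαe : topHom (α : MulAut N) (e1 : N ⧸ Subgroup.center N) = e1 * f) {l : ZMod p} (hl : l ≠ 0) :
    ∃ (r : R) (c ε : ZMod p), ((c = l * l ∧ ε = l) ∨ (c = l ∧ ε = 1)) ∧
      topHom (r : MulAut N) f = f ^ c.val ∧
      ((e1 : N ⧸ Subgroup.center N) ^ (l⁻¹ : ZMod p).val)⁻¹ * topHom (r : MulAut N) e1 ∈
        Subgroup.zpowers f ∧
      (r : MulAut N) e = e ^ ε.val ∧ w⁻¹ * (r : MulAut N) w ∈ Subgroup.zpowers e := by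
  have hp : p.Prime := Fact.out
  set q1 : N ⧸ Subgroup.center N := (e1 : N ⧸ Subgroup.center N) with hq1'
  set u := topHom (α : MulAut N) with hu
  obtain ⟨r0, hre, hrw, hre1, hrg⟩ := h.torus l hl
  set ρ := topHom (r0 : MulAut N) with hρ
  have hρ1 : ρ q1 = q1 ^ (l⁻¹ : ZMod p).val := by
    rw [hρ, hq1', topHom_mk, hre1, QuotientGroup.mk_pow]
  have hfo : orderOf f = p := orderOf_eq_prime (h.exp_quot f) hf
  by_cases hfix : ρ f ∈ Subgroup.zpowers f
  · obtain ⟨c, hc⟩ := exists_zmod_pow hfo hfix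
    refine ⟨r0, c, l, Or.inl ⟨?_, rfl⟩, hc, ?_, hre, ?_⟩
    · obtain ⟨g, rfl⟩ := QuotientGroup.mk_surjective f
      have hmem : ρ (g : N ⧸ Subgroup.center N) * ((g : N ⧸ Subgroup.center N) ^ (l * l).val)⁻¹ ∈
          Subgroup.zpowers q1 := by
        rw [hρ, topHom_mk, ← QuotientGroup.mk_pow, ← QuotientGroup.mk_inv, ← QuotientGroup.mk_mul]
        have := hrg g
        rw [Subgroup.mem_sup_of_normal_right] at this
        obtain ⟨a, ⟨i, rfl⟩, z, hz, he⟩ := this
        rw [← he, QuotientGroup.mk_mul, (QuotientGroup.eq_one_iff z).2 hz, mul_one,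
          QuotientGroup.mk_zpow]
        exact ⟨i, rfl⟩
      rw [hc] at hmem
      set F0 : N ⧸ Subgroup.center N := (g : N ⧸ Subgroup.center N)
      have hd : F0 ^ c.val * (F0 ^ (l * l).val)⁻¹ = F0 ^ (c - l * l).val := by
        rw [mul_inv_eq_iff_eq_mul, ← pow_val_add (h.exp_quot F0), sub_add_cancel]
      rw [hd] at hmem
      by_contra hne
      have h0 : F0 ^ (c - l * l).val ≠ 1 := fun h1 =>
        hne (sub_eq_zero.1 (eq_zero_of_pow_val_eq_one hfo h1))
      refine hfe ?_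
      have hle : Subgroup.zpowers (F0 ^ (c - l * l).val) ≤ Subgroup.zpowers F0 :=
        Subgroup.zpowers_le.2 (Subgroup.pow_mem _ (Subgroup.mem_zpowers _) _)
      have heq := Subgroup.eq_of_le_of_card_ge hle (by
        rw [Nat.card_zpowers, Nat.card_zpowers, hfo, orderOf_eq_prime (h.exp_quot _) h0])
      exact (Subgroup.zpowers_le.2 hmem) (heq.ge (Subgroup.mem_zpowers F0))
    · rw [hρ1, inv_mul_cancel]; exact one_mem _
    · rw [hrw, inv_mul_cancel]; exact one_mem _
  -- the conjugate transvection has another centre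
  set α' : R := r0 * α * r0⁻¹ with hα'
  set b := topHom (α' : MulAut N) with hb
  set f2 := ρ f with hf2
  have hbρ : ∀ x, b (ρ x) = ρ (u x) := fun x => by
    have he : b = ρ * u * ρ⁻¹ := by rw [hb, hρ, hu, hα']; simp [map_mul, map_inv]
    rw [he]
    simp
  have hbf2 : b f2 = f2 := by rw [hf2, hbρ, hαf]
  have hf2ne : f2 ≠ 1 := fun h0 => hf (ρ.injective (h0.trans (map_one ρ).symm))
  have hf2o : orderOf f2 = p := orderOf_eq_prime (h.exp_quot f2) hf2ne
  have hu1 : u ≠ 1 := fun h0 => hf (by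
    have := hαe
    rw [h0, MulAut.one_apply] at this
    exact mul_eq_left.1 this.symm)
  obtain ⟨k, hk⟩ := h.isPGroup ⟨α, hα⟩
  have hk' : (α : R) ^ p ^ k = 1 := congrArg (fun x : P => (x : R)) hk
  have hbk : b ^ p ^ k = 1 := by
    rw [hb, ← map_pow, ← Subgroup.coe_pow, hα', conj_pow, hk', mul_one, mul_inv_cancel]
    exact map_one topHom
  -- shifts
  have hn : ∀ K : Subgroup (N ⧸ Subgroup.center N), (K.subgroupOf ⊤).Normal := fun K =>
    ⟨fun x hx y => by rwa [show y * x * y⁻¹ = x from Subtype.ext (by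
      simp [h.quot_comm (y : N ⧸ Subgroup.center N) x])]⟩
  have hbm : f⁻¹ * b f ∈ Subgroup.zpowers f2 := by
    refine inv_mul_mem_of_relIndex (M := ⊤) hbk (hn _) ?_ (fun _ _ => Subgroup.mem_top _) ?_ _
      (Subgroup.mem_top _)
    · rw [relIndex_eq_of_card le_top (m := p) (by rw [Subgroup.card_top, h.card_quot, Nat.card_zpowers,
        hf2o, sq])]
    · rintro _ ⟨i, rfl⟩
      rw [map_zpow, hbf2]
      exact Subgroup.zpow_mem _ (Subgroup.mem_zpowers f2) i
  obtain ⟨s, hs⟩ := exists_zmod_pow hf2o hbm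
  have hbf : b f = f * f2 ^ s.val := by rw [← hs, mul_inv_cancel_left]
  have hfnot : f ∉ Subgroup.zpowers f2 := fun hm => hfix (by
    rw [Subgroup.eq_of_le_of_card_ge (Subgroup.zpowers_le.2 hm)
      (by rw [Nat.card_zpowers, Nat.card_zpowers, hfo, hf2o])]
    exact Subgroup.mem_zpowers f2)
  have hs0 : s ≠ 0 := fun h0 => by
    rw [h0, ZMod.val_zero, pow_zero, mul_one] at hbf
    have htop := eq_top_of_mem h.card_quot hf2ne (h.exp_quot f2) hfnot
      (K := MonoidHom.eqLocus (b : N ⧸ Subgroup.center N →* N ⧸ Subgroup.center N) (MonoidHom.id _))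
      hbf2 hbf
    refine hu1 (MulEquiv.ext fun q => ρ.injective ?_)
    have hq : ρ q ∈ MonoidHom.eqLocus (b : N ⧸ Subgroup.center N →* N ⧸ Subgroup.center N)
        (MonoidHom.id _) := htop ▸ Subgroup.mem_top _
    rw [← hbρ]
    exact hq
  have hum : f2⁻¹ * u f2 ∈ Subgroup.zpowers f := by
    have huk : u ^ p ^ k = 1 := by
      rw [hu, ← map_pow, ← Subgroup.coe_pow, hk']
      exact map_one topHom
    refine inv_mul_mem_of_relIndex (M := ⊤) huk (hn _) ?_ (fun _ _ => Subgroup.mem_top _) ?_ _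
      (Subgroup.mem_top _)
    · rw [relIndex_eq_of_card le_top (m := p) (by rw [Subgroup.card_top, h.card_quot, Nat.card_zpowers,
        hfo, sq])]
    · rintro _ ⟨i, rfl⟩
      rw [map_zpow, hαf]
      exact Subgroup.zpow_mem _ (Subgroup.mem_zpowers f) i
  obtain ⟨s', hs'⟩ := exists_zmod_pow hfo hum
  have huf2 : u f2 = f2 * f ^ s'.val := by rw [← hs', mul_inv_cancel_left]
  have hs'0 : s' ≠ 0 := fun h0 => by
    rw [h0, ZMod.val_zero, pow_zero, mul_one] at huf2
    have htop := eq_top_of_mem h.card_quot hf (h.exp_quot f) hfix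
      (K := MonoidHom.eqLocus (u : N ⧸ Subgroup.center N →* N ⧸ Subgroup.center N) (MonoidHom.id _))
      hαf huf2
    refine hu1 (MulEquiv.ext fun q => ?_)
    have hq : q ∈ MonoidHom.eqLocus (u : N ⧸ Subgroup.center N →* N ⧸ Subgroup.center N)
        (MonoidHom.id _) := htop ▸ Subgroup.mem_top _
    exact hq
  obtain ⟨i1, i2, i3, i4, i5, i6, hW1, hW2⟩ :=
    exists_torus_two h.quot_comm h.exp_quot hαf hs'0 huf2 hbf2 hs0 hbf l hl
  set r : R := α ^ i1 * α' ^ i2 * α ^ i3 * (α ^ i4 * α' ^ i5 * α ^ i6) with hr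
  have htr : topHom (r : MulAut N) = u ^ i1 * b ^ i2 * u ^ i3 * (u ^ i4 * b ^ i5 * u ^ i6) := by
    simp only [hr, hu, hb, Subgroup.coe_mul, Subgroup.coe_pow, map_mul, map_pow]
  have hα'k : α' ^ p ^ k = 1 := by rw [hα', conj_pow, hk', mul_one, mul_inv_cancel]
  -- elements fixing `e` and moving `w` along `e`
  let R0 : Submonoid R :=
    { carrier := {x | (x : MulAut N) e = e ∧ w⁻¹ * (x : MulAut N) w ∈ Subgroup.zpowers e}
      one_mem' := ⟨rfl, by simp⟩
      mul_mem' := fun {x y} hx hy => by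
        refine ⟨by rw [Subgroup.coe_mul, MulAut.mul_apply, hy.1, hx.1], ?_⟩
        obtain ⟨i, hi⟩ := hy.2
        have hye : (y : MulAut N) w = w * e ^ i := by
          rw [show e ^ i = w⁻¹ * (y : MulAut N) w from hi, mul_inv_cancel_left]
        rw [Subgroup.coe_mul, MulAut.mul_apply, hye, map_mul, map_zpow, hx.1, ← mul_assoc]
        exact Subgroup.mul_mem _ hx.2 (Subgroup.zpow_mem _ (Subgroup.mem_zpowers e) i) }
  have hrR : r ∈ R0 := by
    have hA : α ∈ R0 := h.p_elem_center hk'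
    have hB : α' ∈ R0 := h.p_elem_center hα'k
    exact mul_mem (mul_mem (mul_mem (pow_mem hA _) (pow_mem hB _)) (pow_mem hA _))
      (mul_mem (mul_mem (pow_mem hA _) (pow_mem hB _)) (pow_mem hA _))
  refine ⟨r, l, 1, Or.inr ⟨rfl, rfl⟩, by rw [htr]; exact hW1, ?_, ?_, hrR.2⟩
  · set T := topHom (r : MulAut N)
    have hTf : T f = f ^ l.val := by rw [show T = _ from htr]; exact hW1
    have hTf2 : T f2 = f2 ^ (l⁻¹ : ZMod p).val := by rw [show T = _ from htr]; exact hW2
    let K : Subgroup (N ⧸ Subgroup.center N) :=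
      { carrier := {q | (q ^ (l⁻¹ : ZMod p).val)⁻¹ * T q ∈ Subgroup.zpowers f}
        one_mem' := by simp
        mul_mem' := fun {q q'} hq hq' => by
          show ((q * q') ^ (l⁻¹ : ZMod p).val)⁻¹ * T (q * q') ∈ Subgroup.zpowers f
          rw [map_mul, (show Commute q q' from h.quot_comm q q').mul_pow, mul_inv_rev,
            h.quot_comm ((q' ^ _)⁻¹), mul_assoc, ← mul_assoc ((q' ^ _)⁻¹),
            h.quot_comm ((q' ^ _)⁻¹) (T q), mul_assoc (T q), ← mul_assoc ((q ^ _)⁻¹)]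
          exact Subgroup.mul_mem _ hq hq'
        inv_mem' := fun {q} hq => by
          show ((q⁻¹) ^ (l⁻¹ : ZMod p).val)⁻¹ * T q⁻¹ ∈ Subgroup.zpowers f
          rw [inv_pow, map_inv, h.quot_comm, ← mul_inv_rev]
          exact Subgroup.inv_mem _ hq }
    have htop := eq_top_of_mem h.card_quot hf (h.exp_quot f) hfix (K := K)
      (by
        show (f ^ (l⁻¹ : ZMod p).val)⁻¹ * T f ∈ Subgroup.zpowers f
        rw [hTf]
        exact Subgroup.mul_mem _ (Subgroup.inv_mem _ (Subgroup.pow_mem _ (Subgroup.mem_zpowers f) _))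
          (Subgroup.pow_mem _ (Subgroup.mem_zpowers f) _))
      (by show (f2 ^ (l⁻¹ : ZMod p).val)⁻¹ * T f2 ∈ Subgroup.zpowers f; rw [hTf2, inv_mul_cancel]; exact one_mem _)
    have hq : q1 ∈ K := htop ▸ Subgroup.mem_top q1
    exact hq
  · haveI : Fact (1 < p) := ⟨hp.one_lt⟩
    rw [ZMod.val_one, pow_one]
    exact hrR.1

/-- Conjugating the transvection by an adapted automorphism. -/
theorem conj_top {α : R} {f : N ⧸ Subgroup.center N} (hf : f ≠ 1)
    (hq1 : (e1 : N ⧸ Subgroup.center N) ∉ Subgroup.zpowers f)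
    (hαf : topHom (α : MulAut N) f = f)
    (hαe : topHom (α : MulAut N) (e1 : N ⧸ Subgroup.center N) = e1 * f)
    {r : R} {c d : ZMod p} (hc0 : c ≠ 0) (hd0 : d ≠ 0)
    (hrf : topHom (r : MulAut N) f = f ^ c.val)
    (hre : ((e1 : N ⧸ Subgroup.center N) ^ d.val)⁻¹ * topHom (r : MulAut N) e1 ∈ Subgroup.zpowers f) :
    topHom ((r * α * r⁻¹ : R) : MulAut N) = topHom (α : MulAut N) ^ (c / d).val := by
  set q1 : N ⧸ Subgroup.center N := (e1 : N ⧸ Subgroup.center N)
  set u := topHom (α : MulAut N)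
  set T := topHom (r : MulAut N)
  have hfo : orderOf f = p := orderOf_eq_prime (h.exp_quot f) hf
  obtain ⟨j, hj⟩ := exists_zmod_pow hfo hre
  have hTe : T q1 = q1 ^ d.val * f ^ j.val := by rw [← hj, mul_inv_cancel_left]
  rw [Subgroup.coe_mul, Subgroup.coe_mul, Subgroup.coe_inv, map_mul, map_mul, map_inv,
    mul_inv_eq_iff_eq_mul]
  refine MulEquiv.ext fun q => ?_
  have htop := eq_top_of_mem h.card_quot hf (h.exp_quot f) hq1
    (K := MonoidHom.eqLocus ((T * u : MulAut (N ⧸ Subgroup.center N)) : N ⧸ Subgroup.center N →* N ⧸ Subgroup.center N)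
      ((u ^ (c / d).val * T : MulAut (N ⧸ Subgroup.center N)) : N ⧸ Subgroup.center N →* N ⧸ Subgroup.center N))
    (by
      show T (u f) = (u ^ (c / d).val) (T f)
      rw [hαf, hrf, map_pow, pow_apply_eq_self hαf])
    (by
      show T (u q1) = (u ^ (c / d).val) (T q1)
      have hd' : disp u q1 = f := by rw [disp, hαe, inv_mul_cancel_left]
      rw [hαe, map_mul, hTe, hrf, map_mul, map_pow, map_pow, pow_apply_eq_self hαf,
        pow_apply_of_fixed (by rw [hd', hαf]), hd',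
        (show Commute q1 (f ^ _) from h.quot_comm _ _).mul_pow, ← pow_val_mul (h.exp_quot f),
        div_mul_cancel₀ c hd0, mul_assoc, mul_assoc,
        h.quot_comm (f ^ c.val)])
  have hq : q ∈ MonoidHom.eqLocus ((T * u : MulAut (N ⧸ Subgroup.center N)) : N ⧸ Subgroup.center N →* N ⧸ Subgroup.center N)
      ((u ^ (c / d).val * T : MulAut (N ⧸ Subgroup.center N)) : N ⧸ Subgroup.center N →* N ⧸ Subgroup.center N) :=
    htop ▸ Subgroup.mem_top q
  exact hq

/-- `P` centralises the centre. -/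
theorem fixes_center (hp5 : 5 ≤ p) : ∀ β ∈ P, ∀ z ∈ Subgroup.center N, (β : MulAut N) z = z := by
  intro α hα
  by_contra hne
  push Not at hne
  obtain ⟨z, hz, hzne⟩ := hne
  have hp : p.Prime := Fact.out
  have hmove : topHom (α : MulAut N) (e1 : N ⧸ Subgroup.center N) ∉
      Subgroup.zpowers (e1 : N ⧸ Subgroup.center N) := fun hm => hzne (h.fixes α hα hm z hz)
  obtain ⟨f, hf, hq1, hfe, hαf, hαe, -⟩ := h.exists_line hα hmove
  obtain ⟨k0, hk0⟩ := h.isPGroup ⟨α, hα⟩
  have hk0' : α ^ p ^ k0 = 1 := congrArg (fun x : P => (x : R)) hk0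
  obtain ⟨hαe0, hαw⟩ := h.p_elem_center hk0'
  have heo : orderOf e = p := orderOf_eq_prime h.e_pow h.e_ne
  obtain ⟨a, ha⟩ := exists_zmod_pow heo hαw
  have hαw' : (α : MulAut N) w = w * e ^ a.val := by rw [← ha, mul_inv_cancel_left]
  have ha0 : a ≠ 0 := fun h0 => hzne (h.fix_center hαe0
    (by rw [hαw', h0, ZMod.val_zero, pow_zero, mul_one]) hz)
  have hne : ∀ m : ℕ, 0 < m → m < p → (m : ZMod p) ≠ 0 := fun m hm hmp h0 => by
    rw [ZMod.natCast_eq_zero_iff] at h0
    exact absurd (Nat.le_of_dvd hm h0) (by omega)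
  have h2 : (2 : ZMod p) ≠ 0 := by exact_mod_cast hne 2 (by omega) (by omega)
  have h3 : (3 : ZMod p) ≠ 0 := by exact_mod_cast hne 3 (by omega) (by omega)
  obtain ⟨r, c, ε, hcases, hrf, hre, hree, hrw⟩ := h.exists_adapted hα hf hq1 hfe hαf hαe h2
  have hc0 : c ≠ 0 := by
    rcases hcases with ⟨rfl, -⟩ | ⟨rfl, -⟩
    · exact mul_ne_zero h2 h2
    · exact h2
  set K := c / (2⁻¹ : ZMod p) with hK
  have hεK : ε - K ≠ 0 := by
    rw [hK, div_inv_eq_mul]
    rcases hcases with ⟨rfl, rfl⟩ | ⟨rfl, rfl⟩ <;> intro h0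
    · refine mul_ne_zero h2 h3 (neg_eq_zero.1 (Eq.trans ?_ h0))
      ring
    · refine h3 (neg_eq_zero.1 (Eq.trans ?_ h0))
      ring
  have htop := h.conj_top hf hq1 hαf hαe hc0 (inv_ne_zero h2) hrf hre
  rw [← hK] at htop
  set κ : R := r * α * r⁻¹ * (α ^ K.val)⁻¹ with hκ
  have hκtop : topHom (κ : MulAut N) = 1 := by
    rw [hκ, Subgroup.coe_mul, map_mul, htop, Subgroup.coe_inv, map_inv, Subgroup.coe_pow, map_pow,
      mul_inv_cancel]
  have hαK : ((α : MulAut N) ^ K.val) w = w * e ^ (a * K).val := by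
    have hd : disp (α : MulAut N) w = e ^ a.val := by rw [disp, hαw', inv_mul_cancel_left]
    rw [pow_apply_of_fixed (by rw [hd, map_pow, hαe0]), hd, ← pow_val_mul h.e_pow]
  obtain ⟨t, ht⟩ := exists_zmod_pow heo hrw
  have hrw' : (r : MulAut N) w = w * e ^ t.val := by rw [← ht, mul_inv_cancel_left]
  have hce : Commute (e ^ a.val) (e ^ t.val) := (Commute.refl e).pow_pow _ _
  have hconj : ((r * α * r⁻¹ : R) : MulAut N) w = w * e ^ (a * ε).val := by
    obtain ⟨v, hv⟩ : ∃ v, (r : MulAut N)⁻¹ w = w * v ∧ v ∈ Subgroup.zpowers e := by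
      refine ⟨w⁻¹ * (r : MulAut N)⁻¹ w, (mul_inv_cancel_left _ _).symm, ?_⟩
      have h1 : (r : MulAut N)⁻¹ (w * e ^ t.val) = w := by rw [← hrw', MulAut.inv_apply_self]
      rw [map_mul] at h1
      rw [show w⁻¹ * (r : MulAut N)⁻¹ w = w⁻¹ * ((r : MulAut N)⁻¹ w * (r : MulAut N)⁻¹ (e ^ t.val)) *
        ((r : MulAut N)⁻¹ (e ^ t.val))⁻¹ by group, h1, inv_mul_cancel, one_mul, map_pow]
      exact Subgroup.inv_mem _ (Subgroup.pow_mem _ (h.map_e _) _)
    obtain ⟨hv1, hv2⟩ := hv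
    obtain ⟨i, hi⟩ := hv2
    have hv' : (α : MulAut N) v = v := by rw [← show e ^ i = v from hi, map_zpow, hαe0]
    show (r : MulAut N) ((α : MulAut N) ((r : MulAut N)⁻¹ w)) = _
    rw [hv1, map_mul, hv', hαw', mul_assoc, show e ^ a.val * v = v * e ^ a.val by
        rw [← show e ^ i = v from hi]; exact (((Commute.refl e).zpow_right i).pow_left _).eq,
      ← mul_assoc, ← hv1, map_mul, MulAut.apply_inv_self, map_pow, hree, ← pow_val_mul h.e_pow,
      mul_comm ε]
  have hκw : (κ : MulAut N) w = w * e ^ (a * (ε - K)).val := by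
    have hcomm : ((α : MulAut N) ^ K.val)⁻¹ w = w * e ^ (-(a * K)).val := by
      apply ((α : MulAut N) ^ K.val).injective
      rw [MulAut.apply_inv_self, map_mul, map_pow, hαK, pow_apply_eq_self hαe0, mul_assoc,
        ← pow_val_add h.e_pow, add_neg_cancel, ZMod.val_zero, pow_zero, mul_one]
    have hre' : ((r * α * r⁻¹ : R) : MulAut N) e = e := (h.p_elem_center (k := k0) (by
      rw [conj_pow, hk0']; simp)).1
    show ((r * α * r⁻¹ : R) : MulAut N) (((α : MulAut N) ^ K.val)⁻¹ w) = _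
    rw [hcomm, map_mul, map_pow, hre', hconj, mul_assoc, ← pow_val_add h.e_pow, ← sub_eq_add_neg,
      ← mul_sub]
  obtain ⟨i, m, hm, hcard⟩ := Nat.exists_eq_pow_mul_and_not_dvd (orderOf_pos κ).ne' p hp.ne_one
  have hκm : (κ ^ m) ^ p ^ i = 1 := by
    rw [← pow_mul, mul_comm, ← hcard, pow_orderOf_eq_one]
  obtain ⟨g, hg⟩ := h.conj_into _ ⟨i, hκm⟩
  have hfixg : ((g * κ ^ m * g⁻¹ : R) : MulAut N) ((g : MulAut N) w) = (g : MulAut N) w :=
    h.fixes _ hg (by
      have : topHom ((g * κ ^ m * g⁻¹ : R) : MulAut N) = 1 := by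
        simp [map_mul, map_pow, hκtop]
      rw [this, MulAut.one_apply]
      exact Subgroup.mem_zpowers _) _ (h.center_mem _ h.w_mem)
  have hfixm : ((κ : MulAut N) ^ m) w = w := by
    have h1 : (g : MulAut N) (((κ : MulAut N) ^ m) ((g : MulAut N)⁻¹ ((g : MulAut N) w))) =
        (g : MulAut N) w := hfixg
    rw [MulAut.inv_apply_self] at h1
    exact (g : MulAut N).injective h1
  have hκe : (κ : MulAut N) e = e := by
    have h1 := (h.p_elem_center (k := k0) (show (r * α * r⁻¹) ^ p ^ k0 = 1 by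
      rw [conj_pow, hk0']; simp)).1
    show ((r * α * r⁻¹ : R) : MulAut N) (((α : MulAut N) ^ K.val)⁻¹ e) = _
    have h2 : ((α : MulAut N) ^ K.val)⁻¹ e = e := by
      apply ((α : MulAut N) ^ K.val).injective
      rw [MulAut.apply_inv_self, pow_apply_eq_self hαe0]
    rw [h2, h1]
  have hd : disp (κ : MulAut N) w = e ^ (a * (ε - K)).val := by
    rw [disp, hκw, inv_mul_cancel_left]
  rw [pow_apply_of_fixed (by rw [hd, map_pow, hκe]), hd, mul_eq_left, ← pow_mul,
    ← orderOf_dvd_iff_pow_eq_one, heo] at hfixm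
  rcases (Nat.Prime.dvd_mul hp).1 hfixm with h1 | h1
  · exact mul_ne_zero ha0 hεK ((ZMod.val_eq_zero _).1 (Nat.eq_zero_of_dvd_of_lt h1 (ZMod.val_lt _)))
  · exact hm h1

/-- An involutory-like automorphism normalising `P`. -/
theorem exists_sign (hp5 : 5 ≤ p) {A3 : Subgroup N} (hA3 : Subgroup.center N ≤ A3)
    (he1A : e1 ∉ A3) (hA3P : ∀ β ∈ P, ∀ g : N, g⁻¹ * (β : MulAut N) g ∈ A3)
    (hmove : ∃ α ∈ P, topHom (α : MulAut N) (e1 : N ⧸ Subgroup.center N) ∉
      Subgroup.zpowers (e1 : N ⧸ Subgroup.center N)) :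
    ∃ r : R, (∀ β ∈ P, r * β * r⁻¹ ∈ P) ∧
      (∀ z ∈ Subgroup.center N, z⁻¹ * (r : MulAut N) z ∈ Subgroup.zpowers e) ∧
      e1 * (r : MulAut N) e1 ∈ A3 ∧
      ∃ c : ℤ, c * c = 1 ∧ ∀ g ∈ A3, (g ^ c)⁻¹ * (r : MulAut N) g ∈ Subgroup.center N := by
  have hp : p.Prime := Fact.out
  obtain ⟨α, hα, hmv⟩ := hmove
  obtain ⟨f, hf, hq1, hfe, hαf, hαe, hall⟩ := h.exists_line hα hmv
  have hne : ∀ m : ℕ, 0 < m → m < p → (m : ZMod p) ≠ 0 := fun m hm hmp h0 => by
    rw [ZMod.natCast_eq_zero_iff] at h0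
    exact absurd (Nat.le_of_dvd hm h0) (by omega)
  have hl : (-1 : ZMod p) ≠ 0 := neg_ne_zero.2 one_ne_zero
  obtain ⟨r, c, ε, hcases, hrf, hre, hree, hrw⟩ := h.exists_adapted hα hf hq1 hfe hαf hαe hl
  have hc : c = 1 ∨ c = -1 := by
    rcases hcases with ⟨rfl, -⟩ | ⟨rfl, -⟩
    · left; ring
    · right; rfl
  have hc0 : c ≠ 0 := by
    rcases hc with rfl | rfl
    · exact one_ne_zero
    · exact hl
  have htop := h.conj_top hf hq1 hαf hαe hc0 (inv_ne_zero hl) hrf hre
  have hfix := h.fixes_center hp5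
  have hkerP : ∀ x : R, topHom (x : MulAut N) = 1 →
      (∀ z ∈ Subgroup.center N, (x : MulAut N) z = z) → x ∈ P := h.of_stabilizes
  have hαr : r * α * r⁻¹ ∈ P := by
    set k := (c / (-1 : ZMod p)⁻¹).val
    have h1 : r * α * r⁻¹ * (α ^ k)⁻¹ ∈ P := by
      refine hkerP _ ?_ fun z hz => ?_
      · rw [Subgroup.coe_mul, map_mul, htop, Subgroup.coe_inv, map_inv, Subgroup.coe_pow, map_pow,
          mul_inv_cancel]
      · show (r : MulAut N) ((α : MulAut N) ((r : MulAut N)⁻¹ (((α ^ k)⁻¹ : R).1 z))) = z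
        rw [hfix _ (P.inv_mem (P.pow_mem hα k)) z hz, hfix α hα _ (h.center_mem _ hz),
          MulAut.apply_inv_self]
    have := P.mul_mem h1 (P.pow_mem hα k)
    rwa [inv_mul_cancel_right] at this
  refine ⟨r, fun β hβ => ?_, fun z hz => ?_, ?_, ?_⟩
  · obtain ⟨-, j, hj⟩ := hall β hβ
    have h1 : r * (β * (α ^ j)⁻¹) * r⁻¹ ∈ P := by
      refine hkerP _ ?_ fun z hz => ?_
      · simp [map_mul, map_inv, map_pow, hj]
      · show (r : MulAut N) ((β * (α ^ j)⁻¹ : R).1 ((r : MulAut N)⁻¹ z)) = z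
        rw [hfix _ (P.mul_mem hβ (P.inv_mem (P.pow_mem hα j))) _ (h.center_mem _ hz),
          MulAut.apply_inv_self]
    have := P.mul_mem h1 (P.pow_mem hαr j)
    rwa [conj_pow, show r * (β * (α ^ j)⁻¹) * r⁻¹ * (r * α ^ j * r⁻¹) = r * β * r⁻¹ by group] at this
  · let K : Subgroup N :=
      { carrier := {g | g ∈ Subgroup.center N ∧ g⁻¹ * (r : MulAut N) g ∈ Subgroup.zpowers e}
        one_mem' := ⟨one_mem _, by simp⟩
        mul_mem' := fun {g g'} hg hg' => ⟨mul_mem hg.1 hg'.1, by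
          rw [map_mul, mul_inv_rev, show g'⁻¹ * g⁻¹ * ((r : MulAut N) g * (r : MulAut N) g') =
            g'⁻¹ * (g⁻¹ * (r : MulAut N) g) * g' * (g'⁻¹ * (r : MulAut N) g') by group]
          refine Subgroup.mul_mem _ ?_ hg'.2
          rw [← Subgroup.mem_center_iff.1 ((Subgroup.zpowers_le.2 h.e_mem) hg.2) g'⁻¹ |>.symm,
            inv_mul_cancel_right]
          exact hg.2⟩
        inv_mem' := fun {g} hg => ⟨inv_mem hg.1, by
          rw [inv_inv, map_inv, show g * ((r : MulAut N) g)⁻¹ = g * (g⁻¹ * (r : MulAut N) g)⁻¹ * g⁻¹ by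
            group, Subgroup.mem_center_iff.1 (inv_mem ((Subgroup.zpowers_le.2 h.e_mem) hg.2)) g,
            mul_inv_cancel_right]
          exact inv_mem hg.2⟩ }
    have hle : Subgroup.center N ≤ K := h.center_eq ▸ sup_le
      (Subgroup.zpowers_le.2 ⟨h.e_mem, by
        rw [hree]
        exact Subgroup.mul_mem _ (Subgroup.inv_mem _ (Subgroup.mem_zpowers e))
          (Subgroup.pow_mem _ (Subgroup.mem_zpowers e) _)⟩)
      (Subgroup.zpowers_le.2 ⟨h.w_mem, hrw⟩)
    exact (hle hz).2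
  · -- the class of `e1`
    have hfA : f ∈ A3.map (QuotientGroup.mk' (Subgroup.center N)) := by
      refine ⟨e1⁻¹ * (α : MulAut N) e1, hA3P α hα e1, ?_⟩
      rw [map_mul, map_inv]
      show (e1 : N ⧸ Subgroup.center N)⁻¹ * topHom (α : MulAut N) e1 = f
      rw [hαe, inv_mul_cancel_left]
    have hre' : ((e1 : N ⧸ Subgroup.center N) * topHom (r : MulAut N) e1) ∈
        A3.map (QuotientGroup.mk' (Subgroup.center N)) := by
      have := (Subgroup.zpowers_le.2 hfA) hre
      have he : (e1 : N ⧸ Subgroup.center N) ^ ((-1 : ZMod p)⁻¹).val =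
          (e1 : N ⧸ Subgroup.center N)⁻¹ := by
        haveI : Fact (1 < p) := ⟨hp.one_lt⟩
        rw [inv_neg_one, eq_inv_iff_mul_eq_one]
        nth_rewrite 2 [← pow_one (e1 : N ⧸ Subgroup.center N)]
        rw [← ZMod.val_one (n := p), ← pow_val_add (h.exp_quot _), neg_add_cancel, ZMod.val_zero,
          pow_zero]
      rwa [he, inv_inv] at this
    obtain ⟨g, hg, hge⟩ := hre'
    rw [QuotientGroup.mk'_apply, topHom_mk, ← QuotientGroup.mk_mul, QuotientGroup.eq] at hge
    have := A3.mul_mem hg (hA3 hge)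
    rwa [mul_inv_cancel_left] at this
  · have hfA : ∀ g ∈ A3, (g : N ⧸ Subgroup.center N) ∈ Subgroup.zpowers f := by
      intro g hg
      by_contra hgf
      refine he1A ?_
      have hfA' : f ∈ A3.map (QuotientGroup.mk' (Subgroup.center N)) := by
        refine ⟨e1⁻¹ * (α : MulAut N) e1, hA3P α hα e1, ?_⟩
        rw [map_mul, map_inv]
        show (e1 : N ⧸ Subgroup.center N)⁻¹ * topHom (α : MulAut N) e1 = f
        rw [hαe, inv_mul_cancel_left]
      have htop := eq_top_of_mem h.card_quot hf (h.exp_quot f) hgf hfA' ⟨g, hg, rfl⟩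
      obtain ⟨g', hg', hge⟩ : (e1 : N ⧸ Subgroup.center N) ∈
          A3.map (QuotientGroup.mk' (Subgroup.center N)) := htop ▸ Subgroup.mem_top _
      rw [QuotientGroup.mk'_apply, QuotientGroup.eq] at hge
      have := A3.mul_mem hg' (hA3 hge)
      rwa [mul_inv_cancel_left] at this
    refine ⟨if c = 1 then 1 else -1, by split_ifs <;> norm_num, fun g hg => ?_⟩
    rw [← QuotientGroup.eq_one_iff, QuotientGroup.mk_mul, QuotientGroup.mk_inv, QuotientGroup.mk_zpow,
      inv_mul_eq_one, ← topHom_mk]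
    obtain ⟨i, hi⟩ := hfA g hg
    rw [← show f ^ i = (g : N ⧸ Subgroup.center N) from hi, map_zpow, hrf]
    haveI : Fact (1 < p) := ⟨hp.one_lt⟩
    rcases hc with rfl | rfl
    · rw [if_pos rfl, zpow_one, ZMod.val_one, pow_one]
    · rw [if_neg, zpow_neg_one, ← inv_zpow]
      · congr 1
        rw [eq_comm, eq_inv_iff_mul_eq_one]
        nth_rewrite 2 [← pow_one f]
        rw [← ZMod.val_one (n := p), ← pow_val_add (h.exp_quot f), neg_add_cancel, ZMod.val_zero,
          pow_zero]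
      · intro hh
        refine hne 2 (by omega) (by omega) ?_
        rw [Nat.cast_ofNat]
        linear_combination -hh

end NData

end CfsgLib.Fus.EssentialElemCube
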