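import Cfsg.Agent.Fus.EssentialElemCube.Normalizer
import Cfsg.Agent.Fus.EssentialElemCube.GroupCases
import Cfsg.Agent.Fus.Extension
import Cfsg.Agent.Fus.EssentialSmall
import Cfsg.Agent.Transfer.Frobenius

/-!
A fusion system over a whole `p`-group with an essential-like elementary abelian subgroup of order
`p ^ 3`: conjugates, the normaliser and its automisers.
-/

set_option autoImplicit false

open scoped commutatorElement

namespace CfsgLib.Fus.EssentialElemCube

open Cfsg Cfsg.FusionSystem CfsgLib.Fus CfsgLib.Fusion.Alperin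

theorem TIData.comap {V V' : Type*} [Group V] [Group V'] {p : ℕ} {A : Subgroup (MulAut V)}
    {B : Subgroup (MulAut V')} (f : A →* B) (hf : Function.Bijective f) {M : Subgroup B}
    (h : TIData p V' B M) : TIData p V A (M.comap f) := by
  refine ⟨fun htop => h.ne_top (Subgroup.comap_injective hf.2 (htop.trans (Subgroup.comap_top f).symm)),
    fun {x g} hx hxp hg => h.mem_of_conj hx ((orderOf_injective f hf.1 x).trans hxp) ?_⟩
  rw [← map_inv, ← map_mul, ← map_mul]
  exact hg

/-- Every `p`-subgroup lies in a trivial-intersection subgroup. -/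
def HasTI (p : ℕ) {V : Type*} [Group V] (A : Subgroup (MulAut V)) : Prop :=
  ∀ X : Subgroup A, IsPGroup p X → ∃ M, TIData p V A M ∧ X ≤ M

theorem HasTI.comap {V V' : Type*} [Group V] [Group V'] {p : ℕ} {A : Subgroup (MulAut V)}
    {B : Subgroup (MulAut V')} (f : A →* B) (hf : Function.Bijective f) (h : HasTI p B) :
    HasTI p A := fun X hX => by
  obtain ⟨M, hM, hXM⟩ := h (X.map f) (hX.map f)
  exact ⟨M.comap f, hM.comap f hf, Subgroup.map_le_iff_le_comap.1 hXM⟩

variable {G : Type*} [Group G] {p : ℕ}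

theorem normalizerIn_top (P : Subgroup G) :
    Cfsg.FusionSystem.normalizerIn (⊤ : Subgroup G) P = Subgroup.normalizer (P : Set G) := top_inf_eq _

theorem centralizerIn_top (P : Subgroup G) :
    Cfsg.FusionSystem.centralizerIn (⊤ : Subgroup G) P = Subgroup.centralizer (P : Set G) := top_inf_eq _

/-- The hypotheses on the given subgroup. -/
structure Start (F : Cfsg.FusionSystem (⊤ : Subgroup G)) (p : ℕ) (E : Subgroup G) : Prop where
  card : Nat.card E = p ^ 3
  exp : ∀ x ∈ E, x ^ p = 1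
  comm : ∀ x ∈ E, ∀ y ∈ E, Commute x y
  centric : F.IsCentric E
  fullyNormalized : F.IsFullyNormalized E
  hasTI : HasTI p (F.autGroup E)

variable [Finite G] [Fact p.Prime] {F : Cfsg.FusionSystem (⊤ : Subgroup G)} {E0 : Subgroup G}

theorem card_normalizer_le (h : Start F p E0) (hG : IsPGroup p G) :
    Nat.card (Subgroup.normalizer (E0 : Set G)) ≤ p ^ 4 := by
  have hp : p.Prime := Fact.out
  haveI : Finite (MulAut E0) := finite_mulAut E0
  have hA : ∀ g, E0.normalizerMonoidHom g ∈ F.autGroup E0 := fun g =>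
    autInducedBy_le_autGroup F le_top (conjAut_mem_autInducedBy g.2 (Subgroup.mem_top _))
  set φ := E0.normalizerMonoidHom.codRestrict (F.autGroup E0) hA
  have hX : IsPGroup p φ.range := by
    rw [MonoidHom.range_eq_map]
    exact ((hG.to_subgroup _).to_subgroup ⊤).map φ
  obtain ⟨M, hM, hXM⟩ := h.hasTI φ.range hX
  have hr : Nat.card φ.range ≤ p :=
    card_le_of_mem (fun x y => Subtype.ext (h.comm _ x.2 _ y.2).eq)
      (fun x => Subtype.ext (h.exp _ x.2)) h.card hM hX hXM
  have hk : Nat.card φ.ker ≤ p ^ 3 := by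
    rw [← h.card]
    refine Nat.card_le_card_of_injective (fun g => ⟨((g : Subgroup.normalizer (E0 : Set G)) : G), ?_⟩)
      fun a b hab => Subtype.ext (Subtype.ext (congrArg (fun z : E0 => (z : G)) hab))
    refine h.centric.2 E0 (isConj_refl F le_top) ?_
    rw [centralizerIn_top, Subgroup.mem_centralizer_iff]
    intro y hy
    have h1 : E0.normalizerMonoidHom (g : Subgroup.normalizer (E0 : Set G)) = 1 :=
      congrArg Subtype.val (MonoidHom.mem_ker.1 g.2)
    have h2 : ((g : Subgroup.normalizer (E0 : Set G)) : G) * y *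
        ((g : Subgroup.normalizer (E0 : Set G)) : G)⁻¹ = y :=
      congrArg Subtype.val (MulEquiv.congr_fun h1 ⟨y, hy⟩)
    exact (mul_inv_eq_iff_eq_mul.1 h2).symm
  have hh := φ.ker.card_mul_index
  rw [Subgroup.index_ker] at hh
  rw [← hh, show p ^ 4 = p ^ 3 * p from pow_succ p 3]
  exact Nat.mul_le_mul hk hr

theorem exp_comm_of_conj (h : Start F p E0) {Q : Subgroup G} (hQ : F.IsConj E0 Q) :
    (∀ x ∈ Q, x ^ p = 1) ∧ (∀ x ∈ Q, ∀ y ∈ Q, Commute x y) := by
  obtain ⟨φ, hφ, rfl⟩ := hQ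
  refine ⟨?_, ?_⟩
  · rintro _ ⟨x, rfl⟩
    rw [← map_pow, show x ^ p = 1 from Subtype.ext (h.exp _ x.2), map_one]
  · rintro _ ⟨x, rfl⟩ _ ⟨y, rfl⟩
    exact Commute.map (show Commute x y from Subtype.ext (h.comm _ x.2 _ y.2).eq) φ

variable {n : ℕ}

theorem cube_of_conj (h : Start F p E0) (hcard : Nat.card G = p ^ n) (hn : 4 ≤ n) {Q : Subgroup G}
    (hQ : F.IsConj E0 Q) : Cube p Q ∧ F.IsFullyNormalized Q := by
  have hp : p.Prime := Fact.out
  have hG : IsPGroup p G := IsPGroup.of_card hcard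
  have hQc : Nat.card Q = p ^ 3 := (isConj_card hQ).symm.trans h.card
  have hle : Nat.card (Subgroup.normalizer (Q : Set G)) ≤ p ^ 4 := by
    rw [← normalizerIn_top]
    refine (h.fullyNormalized.2 Q hQ).trans ?_
    rw [normalizerIn_top]
    exact card_normalizer_le h hG
  have hlt : Q < ⊤ := lt_top_iff_ne_top.2 fun he => by
    rw [he, Subgroup.card_top, hcard] at hQc
    have := Nat.pow_right_injective hp.two_le hQc
    omega
  have hgrow := CfsgLib.Transfer.lt_inf_normalizer_of_lt (hG.to_subgroup ⊤) hlt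
  rw [top_inf_eq] at hgrow
  have hge : p ^ 4 ≤ Nat.card (Subgroup.normalizer (Q : Set G)) := by
    obtain ⟨i, hi⟩ := IsPGroup.iff_card.1 (hG.to_subgroup (Subgroup.normalizer (Q : Set G)))
    have h3 : Nat.card Q < Nat.card (Subgroup.normalizer (Q : Set G)) :=
      lt_of_le_of_ne (Subgroup.card_le_of_le hgrow.le) fun he =>
        hgrow.ne (Subgroup.eq_of_le_of_card_ge hgrow.le he.ge)
    rw [hQc, hi, Nat.pow_lt_pow_iff_right hp.one_lt] at h3
    rw [hi]
    exact Nat.pow_le_pow_right hp.pos h3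
  obtain ⟨hexp, hcomm⟩ := exp_comm_of_conj h hQ
  refine ⟨⟨hQc, hexp, hcomm, ?_, le_antisymm hle hge⟩, le_top, fun R hR => ?_⟩
  · rw [← centralizerIn_top]
    exact h.centric.2 Q hQ
  · rw [normalizerIn_top Q]
    refine le_trans ?_ hge
    refine (h.fullyNormalized.2 R (isConj_trans hQ hR)).trans ?_
    rw [normalizerIn_top]
    exact card_normalizer_le h hG

theorem hasTI_of_conj (h : Start F p E0) {Q : Subgroup G} (hQ : F.IsConj E0 Q) :
    HasTI p (F.autGroup Q) := by
  obtain ⟨φ, hφ, hr⟩ := hQ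
  set c := (MulAut.congr (isoOf hφ hr)).symm
  refine HasTI.comap ((c.toMonoidHom.comp (F.autGroup Q).subtype).codRestrict (F.autGroup E0)
    fun β => congr_symm_mem_autGroup hφ hr β.2) ⟨fun a b hab => ?_, fun β => ?_⟩ h.hasTI
  · exact Subtype.ext (c.injective (congrArg Subtype.val hab))
  · exact ⟨⟨_, congr_mem_autGroup hφ hr β.2⟩,
      Subtype.ext ((MulAut.congr (isoOf hφ hr)).symm_apply_apply (β : MulAut E0))⟩

/-- A conjugate whose normaliser is fully normalised. -/
theorem exists_base (h : Start F p E0) (hcard : Nat.card G = p ^ n) (hn : 4 ≤ n)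
    (hF : F.IsSaturated p) :
    ∃ E, F.IsConj E0 E ∧ F.IsFullyNormalized (Subgroup.normalizer (E : Set G)) := by
  obtain ⟨N', hconj, hfn⟩ := exists_fullyNormalized F (P := Subgroup.normalizer (E0 : Set G)) le_top
  obtain ⟨φ, hφ, hr⟩ := hconj
  have hE0 : E0 ≤ Subgroup.normalizer (E0 : Set G) := Subgroup.le_normalizer
  set ψ := φ.comp (Subgroup.inclusion hE0)
  have hψ : ψ ∈ F.Hom E0 := restrict_mem F hφ hE0
  have hconj : F.IsConj E0 ψ.range := ⟨ψ, hψ, rfl⟩
  refine ⟨ψ.range, hconj, ?_⟩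
  have hle : N' ≤ Subgroup.normalizer (ψ.range : Set G) := by
    rw [← hr]
    rintro _ ⟨g, rfl⟩
    refine mem_normalizer_of_comm ?_
    rintro _ ⟨x, rfl⟩
    show ⁅φ g, φ (Subgroup.inclusion hE0 x)⁆ ∈ ψ.range
    rw [← map_commutatorElement]
    have hm : (g : G) * x * (g : G)⁻¹ * (x : G)⁻¹ ∈ E0 :=
      E0.mul_mem ((Subgroup.mem_normalizer_iff.1 g.2 _).1 x.2) (E0.inv_mem x.2)
    exact ⟨⟨_, hm⟩, congrArg φ (Subtype.ext rfl)⟩
  have hc1 : Nat.card N' = p ^ 4 := by
    rw [← hr, ← Nat.card_congr (MonoidHom.ofInjective (F.injective_of_mem hφ)).toEquiv]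
    exact (cube_of_conj h hcard hn (isConj_refl F le_top)).1.card_normalizer
  have heq : N' = Subgroup.normalizer (ψ.range : Set G) := Subgroup.eq_of_le_of_card_ge hle
    (by rw [(cube_of_conj h hcard hn hconj).1.card_normalizer, hc1])
  rw [← heq]
  exact hfn

theorem conj_into_autInduced (hF : F.IsSaturated p) (hG : IsPGroup p G) {N : Subgroup G}
    (hN : F.IsFullyNormalized N) {κ : F.autGroup N} {k : ℕ} (hk : κ ^ p ^ k = 1) :
    ∃ c : F.autGroup N,
      c * κ * c⁻¹ ∈ (Cfsg.autInducedBy (⊤ : Subgroup G) N).subgroupOf (F.autGroup N) := by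
  have hX : IsPGroup p (Subgroup.zpowers (κ : MulAut N)) := by
    rintro ⟨_, i, rfl⟩
    refine ⟨k, Subtype.ext ?_⟩
    show ((κ : MulAut N) ^ i) ^ p ^ k = 1
    rw [← zpow_natCast, ← zpow_mul, mul_comm, zpow_mul, zpow_natCast,
      show (κ : MulAut N) ^ p ^ k = 1 from congrArg Subtype.val hk, one_zpow]
  obtain ⟨a, ha, hax⟩ := exists_conj_into_autS
    (fullyNormalized_props (hG.to_subgroup ⊤) hF hN).1 (Subgroup.zpowers_le.2 κ.2) hX
  exact ⟨⟨a, ha⟩, hax _ (Subgroup.mem_zpowers _)⟩

theorem mem_autInduced_of_pCore (hF : F.IsSaturated p) (hG : IsPGroup p G) {N : Subgroup G}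
    (hN : F.IsFullyNormalized N) {κ : F.autGroup N} (hκ : κ ∈ Cfsg.pCore p (F.autGroup N)) :
    κ ∈ (Cfsg.autInducedBy (⊤ : Subgroup G) N).subgroupOf (F.autGroup N) := by
  haveI : Finite (MulAut N) := finite_mulAut N
  obtain ⟨⟨-, P, hP⟩, -⟩ := fullyNormalized_props (hG.to_subgroup ⊤) hF hN
  rw [← hP]
  exact CharP.pCore_le_sylow P hκ

/-- The data on the normaliser. -/
theorem exists_ndata (hF : F.IsSaturated p) (hG : IsPGroup p G) {E : Subgroup G} (hE : Cube p E)
    (hfn : F.IsFullyNormalized E) (hfnN : F.IsFullyNormalized (Subgroup.normalizer (E : Set G)))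
    (hTI : HasTI p (F.autGroup E)) {Z0 : Subgroup G} (hZ0E : Z0 ≤ E) (hZ0c : Nat.card Z0 = p ^ 2)
    (hZ0 : ∀ z ∈ Z0, ∀ a ∈ Subgroup.normalizer (E : Set G), Commute z a) :
    ∃ e w e1 : Subgroup.normalizer (E : Set G),
      NData p _ (F.autGroup (Subgroup.normalizer (E : Set G)))
        ((Cfsg.autInducedBy (⊤ : Subgroup G) (Subgroup.normalizer (E : Set G))).subgroupOf
          (F.autGroup (Subgroup.normalizer (E : Set G)))) e w e1 ∧
      E.subgroupOf (Subgroup.normalizer (E : Set G)) =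
        Subgroup.zpowers e1 ⊔ Subgroup.center _ ∧
      Subgroup.center ↥(Subgroup.normalizer (E : Set G)) =
        Z0.subgroupOf (Subgroup.normalizer (E : Set G)) := by
  have hp : p.Prime := Fact.out
  have hTS : IsPGroup p (⊤ : Subgroup G) := hG.to_subgroup ⊤
  set N := Subgroup.normalizer (E : Set G) with hN
  haveI : Finite (MulAut E) := finite_mulAut E
  haveI : Finite (MulAut N) := finite_mulAut N
  have hEN : E ≤ N := Subgroup.le_normalizer
  obtain ⟨x, hxN, hxE⟩ : ∃ x ∈ N, x ∉ E := by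
    by_contra hall
    push Not at hall
    have h1 := Subgroup.card_le_of_le (hall : N ≤ E)
    rw [hE.card, hE.card_normalizer, Nat.pow_le_pow_iff_right hp.one_lt] at h1
    omega
  have hcE : ∀ a b : E, a * b = b * a := fun a b => Subtype.ext (hE.comm _ a.2 _ b.2).eq
  have heE : ∀ a : E, a ^ p = 1 := fun a => Subtype.ext (hE.exp _ a.2)
  -- the automiser in `S`
  set φ : N →* F.autGroup E := E.normalizerMonoidHom.codRestrict (F.autGroup E) (fun g =>
    autInducedBy_le_autGroup F le_top (conjAut_mem_autInducedBy g.2 (Subgroup.mem_top _))) with hφ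
  have hφp : IsPGroup p φ.range := by
    rw [MonoidHom.range_eq_map]
    exact ((hG.to_subgroup _).to_subgroup ⊤).map φ
  obtain ⟨M, hM, hPM⟩ := hTI φ.range hφp
  have hrc : Nat.card φ.range ≤ p := card_le_of_mem hcE heE hE.card hM hφp hPM
  have hker : ∀ g : N, φ g = 1 → (g : G) ∈ E := by
    intro g hg
    refine hE.self_centralizing (Subgroup.mem_centralizer_iff.2 fun y hy => ?_)
    have h2 : (g : G) * y * (g : G)⁻¹ = y :=
      congrArg Subtype.val (MulEquiv.congr_fun (congrArg Subtype.val hg) ⟨y, hy⟩)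
    exact (mul_inv_eq_iff_eq_mul.1 h2).symm
  set τ := φ ⟨x, hxN⟩ with hτ
  have hτ1 : τ ≠ 1 := fun hc => hxE (hker _ hc)
  have hzr : Subgroup.zpowers τ = φ.range := by
    refine Subgroup.eq_of_le_of_card_ge (Subgroup.zpowers_le.2 ⟨_, rfl⟩) (hrc.trans ?_)
    obtain ⟨j, hj⟩ := IsPGroup.iff_card.1
      (hφp.to_le (Subgroup.zpowers_le.2 ⟨_, rfl⟩ : Subgroup.zpowers τ ≤ φ.range))
    rw [hj]
    refine Nat.le_self_pow (fun h0 => hτ1 ?_) p
    rw [h0, pow_zero, Subgroup.card_eq_one, Subgroup.zpowers_eq_bot] at hj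
    exact hj
  have hτp : orderOf τ = p := by
    have h1 : Nat.card φ.range ≤ p := hrc
    rw [← hzr, Nat.card_zpowers] at h1
    obtain ⟨j, hj⟩ := IsPGroup.iff_card.1 (hφp.to_le hzr.le)
    rw [Nat.card_zpowers] at hj
    rw [hj]
    rw [hj] at h1
    nth_rewrite 2 [← pow_one p] at h1
    rw [Nat.pow_le_pow_iff_right hp.one_lt] at h1
    rcases Nat.eq_zero_or_pos j with rfl | hj0
    · exact absurd (orderOf_eq_one_iff.1 (hj.trans (pow_zero p))) hτ1
    · rw [show j = 1 by omega, pow_one]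
  have hτM : τ ∈ M := hPM ⟨_, rfl⟩
  -- it is a transvection
  set t : MulAut E := (τ : MulAut E) with ht
  have htv : ∀ v : E, ((t v : E) : G) = x * v * x⁻¹ := fun v => rfl
  set D := dispHom hcE t with hD
  have hfix : ∀ v : E, (v : G) ∈ Z0 → t v = v := fun v hv => Subtype.ext (by
    rw [htv, ← (hZ0 _ hv x hxN).eq, mul_inv_cancel_right])
  have hkerle : (Z0.subgroupOf E) ≤ D.ker := fun v hv =>
    disp_eq_one.2 (hfix v (Subgroup.mem_subgroupOf.1 hv))
  have hZ0E' : Nat.card (Z0.subgroupOf E) = p ^ 2 :=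
    (Nat.card_congr (Subgroup.subgroupOfEquivOfLe hZ0E).toEquiv).trans hZ0c
  have htp : t ^ p = 1 := congrArg Subtype.val (orderOf_dvd_iff_pow_eq_one.1 hτp.dvd)
  have h2 : ∀ v, disp t (disp t v) = 1 := by
    have hrange : Nat.card D.range ≤ p := by
      have hprod := card_ker_mul_range D
      rw [hE.card] at hprod
      refine Nat.le_of_mul_le_mul_left ?_ (pow_pos hp.pos 2)
      calc p ^ 2 * Nat.card D.range ≤ Nat.card D.ker * Nat.card D.range :=
            Nat.mul_le_mul_right _ (hZ0E' ▸ Subgroup.card_le_of_le hkerle)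
        _ = p ^ 2 * p := by rw [hprod, pow_succ]
    intro v
    by_cases hv1 : disp t v = 1
    · rw [hv1]; exact map_one D
    have hne : D.range ≠ ⊥ := fun hb => hv1 (by
      have : disp t v ∈ D.range := ⟨v, rfl⟩
      rwa [hb, Subgroup.mem_bot] at this)
    obtain ⟨u, hu, hu1, hfu⟩ := exists_fixed_mem ((hG.to_subgroup _)) htp hne (by
      rintro _ ⟨y, rfl⟩
      exact ⟨t y, (disp_comm (Commute.refl t) y).symm⟩)
    have hz : Subgroup.zpowers u = D.range := Subgroup.eq_of_le_of_card_ge (Subgroup.zpowers_le.2 hu)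
      (by rw [Nat.card_zpowers, orderOf_eq_prime (heE u) hu1]; exact hrange)
    obtain ⟨i, hi⟩ : disp t v ∈ Subgroup.zpowers u := hz.ge ⟨v, rfl⟩
    rw [← show u ^ i = disp t v from hi, disp_eq_one, map_zpow, hfu]
  obtain ⟨e, w, e1, he1ne, hte, htw, hwe, hte1, htorus⟩ := exists_torus hcE heE hE.card hM hτM hτp h2
  have ht1 : t ≠ 1 := fun hc => hτ1 (Subtype.ext hc)
  obtain ⟨e', he', -, him, hkerc⟩ := transvection_data hcE heE hE.card ht1 h2
  have hdE : disp t e1 = e := by rw [disp, hte1, inv_mul_cancel_left]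
  have hzee : Subgroup.zpowers e = Subgroup.zpowers e' := Subgroup.eq_of_le_of_card_ge
    (Subgroup.zpowers_le.2 (hdE ▸ him e1))
    (by rw [Nat.card_zpowers, Nat.card_zpowers, orderOf_eq_prime (heE e) he1ne,
      orderOf_eq_prime (heE e') he'])
  have hker_eq : Z0.subgroupOf E = D.ker :=
    Subgroup.eq_of_le_of_card_ge hkerle (by rw [hkerc, hZ0E'])
  have heZ : (e : G) ∈ Z0 := Subgroup.mem_subgroupOf.1 (hker_eq.ge (disp_eq_one.2 hte))
  have hwZ : (w : G) ∈ Z0 := Subgroup.mem_subgroupOf.1 (hker_eq.ge (disp_eq_one.2 htw))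
  have he1Z : (e1 : G) ∉ Z0 := fun hc => he1ne (by
    rw [← hdE]; exact disp_eq_one.2 (hfix _ hc))
  -- move to `N`
  set eN : N := ⟨e, hEN e.2⟩
  set wN : N := ⟨w, hEN w.2⟩
  set e1N : N := ⟨e1, hEN e1.2⟩
  set xN : N := ⟨x, hxN⟩
  have hNgen : ∀ H : Subgroup G, E ≤ H → x ∈ H → N ≤ H := by
    intro H hEH hxH
    have hle : E ⊔ Subgroup.zpowers x ≤ N := sup_le hEN (Subgroup.zpowers_le.2 hxN)
    have := eq_of_le_of_lt hE.card_normalizer hle hE.card le_sup_left
      (Subgroup.mem_sup_right (Subgroup.mem_zpowers x)) hxE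
    rw [hN, ← this]
    exact sup_le hEH (Subgroup.zpowers_le.2 hxH)
  have hcenter : Subgroup.center N = Z0.subgroupOf N := by
    refine le_antisymm (fun g hg => ?_) fun g hg => Subgroup.mem_center_iff.2 fun a => Subtype.ext
      (hZ0 _ (Subgroup.mem_subgroupOf.1 hg) _ a.2).eq.symm
    have hgE : (g : G) ∈ E := hE.self_centralizing (Subgroup.mem_centralizer_iff.2 fun y hy =>
      congrArg Subtype.val (Subgroup.mem_center_iff.1 hg ⟨y, hEN hy⟩))
    refine Subgroup.mem_subgroupOf.2 ?_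
    have hfx : t ⟨g, hgE⟩ = ⟨g, hgE⟩ := Subtype.ext (by
      show x * (g : G) * x⁻¹ = g
      rw [show x * (g : G) = (g : G) * x from
        congrArg Subtype.val (Subgroup.mem_center_iff.1 hg xN), mul_inv_cancel_right])
    exact Subgroup.mem_subgroupOf.1 (hker_eq.ge (disp_eq_one.2 hfx))
  have hcardc : Nat.card (Subgroup.center N) = p ^ 2 := by
    rw [hcenter, Nat.card_congr (Subgroup.subgroupOfEquivOfLe (hZ0E.trans hEN)).toEquiv, hZ0c]
  have hcq : Nat.card (N ⧸ Subgroup.center N) = p ^ 2 := by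
    have hh := (Subgroup.center N).card_eq_card_quotient_mul_card_subgroup
    rw [hcardc, hE.card_normalizer, show p ^ 4 = p ^ 2 * p ^ 2 by rw [← pow_add]] at hh
    exact (Nat.eq_of_mul_eq_mul_right (pow_pos hp.pos 2) hh).symm
  have hEsup : E.subgroupOf N = Subgroup.zpowers e1N ⊔ Subgroup.center N := by
    refine (eq_of_le_of_lt ((Nat.card_congr (Subgroup.subgroupOfEquivOfLe hEN).toEquiv).trans hE.card)
      (sup_le (Subgroup.zpowers_le.2 e1.2) ?_) hcardc le_sup_right
      (Subgroup.mem_sup_left (Subgroup.mem_zpowers e1N)) ?_).symm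
    · rw [hcenter]
      exact fun g hg => hZ0E hg
    · rw [hcenter]
      exact he1Z
  have hcommN : ∀ a b : N, ⁅a, b⁆ ∈ Subgroup.zpowers eN := by
    have hen : (Subgroup.zpowers eN).Normal := ⟨fun g hg a => by
      obtain ⟨i, rfl⟩ := hg
      have hce : eN ∈ Subgroup.center N := by rw [hcenter]; exact heZ
      rw [Subgroup.mem_center_iff.1 (Subgroup.zpow_mem _ hce i) a, mul_inv_cancel_right]
      exact ⟨i, rfl⟩⟩
    let π := QuotientGroup.mk' (Subgroup.zpowers eN)
    have hxv : ∀ v : E, Commute (π xN) (π ⟨v, hEN v.2⟩) := by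
      intro v
      rw [← commutatorElement_eq_one_iff_commute, ← map_commutatorElement]
      refine (QuotientGroup.eq_one_iff _).2 ?_
      obtain ⟨i, hi⟩ := hzee.ge (him v)
      refine ⟨i, Subtype.ext ?_⟩
      show (e : G) ^ i = x * v * x⁻¹ * (v : G)⁻¹
      rw [← Subgroup.coe_zpow, show e ^ i = disp t v from hi]
      show (v : G)⁻¹ * (x * v * x⁻¹) = x * v * x⁻¹ * (v : G)⁻¹
      exact (hE.comm _ (E.inv_mem v.2) _ ((t v).2 : x * v * x⁻¹ ∈ E)).eq
    have hpre : ∀ a : N, ∀ v : E, Commute (π a) (π ⟨v, hEN v.2⟩) := by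
      intro a v
      have hle := hNgen ((((Subgroup.centralizer {π ⟨v, hEN v.2⟩}).comap π)).map N.subtype) ?_ ?_
      · obtain ⟨b, hb, hba⟩ := hle a.2
        rw [show b = a from Subtype.ext hba] at hb
        exact Subgroup.mem_centralizer_singleton_iff.1 hb
      · intro u hu
        refine ⟨⟨u, hEN hu⟩, Subgroup.mem_centralizer_singleton_iff.2 ?_, rfl⟩
        exact ((show Commute (⟨u, hEN hu⟩ : N) ⟨v, hEN v.2⟩ from
          Subtype.ext (hE.comm _ hu _ v.2).eq).map π).eq
      · exact ⟨xN, Subgroup.mem_centralizer_singleton_iff.2 (hxv v).eq, rfl⟩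
    intro a b
    refine (QuotientGroup.eq_one_iff _).1 ?_
    show π ⁅a, b⁆ = 1
    rw [map_commutatorElement, commutatorElement_eq_one_iff_commute]
    have hax : Commute (π a) (π xN) := by
      have hle := hNgen ((((Subgroup.centralizer {π xN}).comap π)).map N.subtype) ?_ ?_
      · obtain ⟨c, hc, hca⟩ := hle a.2
        rw [show c = a from Subtype.ext hca] at hc
        exact Subgroup.mem_centralizer_singleton_iff.1 hc
      · intro u hu
        exact ⟨⟨u, hEN hu⟩, Subgroup.mem_centralizer_singleton_iff.2 (hxv ⟨u, hu⟩).eq.symm, rfl⟩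
      · exact ⟨xN, Subgroup.mem_centralizer_singleton_iff.2 rfl, rfl⟩
    have hle := hNgen ((((Subgroup.centralizer {π a}).comap π)).map N.subtype) ?_ ?_
    · obtain ⟨c, hc, hcb⟩ := hle b.2
      rw [show c = b from Subtype.ext hcb] at hc
      exact (Subgroup.mem_centralizer_singleton_iff.1 hc : π b * π a = π a * π b).symm
    · intro u hu
      exact ⟨⟨u, hEN hu⟩, Subgroup.mem_centralizer_singleton_iff.2 (hpre a ⟨u, hu⟩).eq.symm, rfl⟩
    · exact ⟨xN, Subgroup.mem_centralizer_singleton_iff.2 hax.eq.symm, rfl⟩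
  have hexpq : ∀ q : N ⧸ Subgroup.center N, q ^ p = 1 := by
    intro q
    obtain ⟨g, rfl⟩ := QuotientGroup.mk_surjective q
    rw [← QuotientGroup.mk_pow, QuotientGroup.eq_one_iff]
    by_cases hgE : (g : G) ∈ E
    · rw [show g ^ p = 1 from Subtype.ext (hE.exp _ hgE)]
      exact one_mem _
    have hgp : (g : G) ^ p ∈ E := by
      have hn : (E.subgroupOf N).Normal := inferInstanceAs (E.subgroupOf (Subgroup.normalizer (E : Set G))).Normal
      have hq : Nat.card (N ⧸ E.subgroupOf N) = p := by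
        have hh := (E.subgroupOf N).card_eq_card_quotient_mul_card_subgroup
        rw [Nat.card_congr (Subgroup.subgroupOfEquivOfLe hEN).toEquiv, hE.card, hE.card_normalizer,
          show p ^ 4 = p * p ^ 3 from pow_succ' p 3] at hh
        exact (Nat.eq_of_mul_eq_mul_right (pow_pos hp.pos 3) hh).symm
      have h1 : ((g : N) : N ⧸ E.subgroupOf N) ^ p = 1 := by
        nth_rewrite 1 [← hq]
        exact pow_card_eq_one'
      rw [← QuotientGroup.mk_pow, QuotientGroup.eq_one_iff] at h1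
      exact h1
    refine Subgroup.mem_center_iff.2 fun a => ?_
    have hsup : E ⊔ Subgroup.zpowers (g : G) = N := eq_of_le_of_lt hE.card_normalizer
      (sup_le hEN (Subgroup.zpowers_le.2 g.2)) hE.card le_sup_left
      (Subgroup.mem_sup_right (Subgroup.mem_zpowers _)) hgE
    have hle : E ⊔ Subgroup.zpowers (g : G) ≤ Subgroup.centralizer {(g : G) ^ p} := sup_le
      (fun u hu => Subgroup.mem_centralizer_singleton_iff.2 (hE.comm _ hu _ hgp).eq)
      (Subgroup.zpowers_le.2 (Subgroup.mem_centralizer_singleton_iff.2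
        ((Commute.refl (g : G)).pow_right p).eq))
    exact Subtype.ext (Subgroup.mem_centralizer_singleton_iff.1 (hle (hsup.ge a.2)))
  refine ⟨eN, wN, e1N, ?_, hEsup, hcenter⟩
  constructor
  · exact hcardc
  · exact hcq
  · exact hexpq
  · rw [hcenter]; exact heZ
  · rw [hcenter]; exact hwZ
  · exact fun hc => he1ne (Subtype.ext (congrArg (fun z : N => (z : G)) hc))
  · exact Subtype.ext (hE.exp _ e.2)
  · exact Subtype.ext (hE.exp _ w.2)
  · rintro ⟨i, hi⟩
    refine hwe ⟨i, Subtype.ext ?_⟩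
    exact congrArg (fun z : N => (z : G)) hi
  · exact hcommN
  · refine ⟨xN, fun hc => he1ne (Subtype.ext ?_)⟩
    have h1 : x * (e1 : G) * x⁻¹ * (e1 : G)⁻¹ = 1 := congrArg Subtype.val hc
    have h2 : x * (e1 : G) * x⁻¹ = (e1 : G) * e := congrArg Subtype.val hte1
    rw [h2, (hE.comm _ e1.2 _ e.2).eq, mul_inv_cancel_right] at h1
    exact h1
  · exact (isPGroup_autInducedBy hTS N).comap_of_injective _ (Subgroup.subtype_injective _)
  · intro κ hκ
    obtain ⟨k, hk⟩ := hκ
    exact conj_into_autInduced hF hG hfnN hk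
  · intro r hr hrc'
    refine mem_autInduced_of_pCore hF hG hfnN (mem_pCore_of_stabilizes (hG.to_subgroup N)
      (F.autGroup N) 2 (fun i => if i = 0 then ⊥ else if i = 1 then Z0 else N) rfl le_rfl ?_ ?_
      (α := r) ?_)
    · exact monotone_nat_of_le_succ fun i => by
        rcases i with _ | _ | i <;> simp [hZ0E.trans hEN]
    · intro i a _ y hy
      rcases i with _ | _ | i
      · have : y = 1 := Subtype.ext (Subgroup.mem_bot.1 hy)
        rw [this, map_one]
        exact one_mem _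
      · simp only [zero_add, Nat.add_eq_zero_iff, one_ne_zero, and_false, ↓reduceIte] at hy ⊢
        have hyc : y ∈ Subgroup.center N := by rw [hcenter]; exact hy
        have h1 : a y ∈ (Subgroup.center N).map a.toMonoidHom := ⟨y, hyc, rfl⟩
        rw [Subgroup.characteristic_iff_map_eq.1 inferInstance a, hcenter] at h1
        exact h1
      · simp
    · intro i hi y hy
      interval_cases i
      · simp only [zero_add, Nat.add_eq_zero_iff, one_ne_zero, and_false, ↓reduceIte] at hy ⊢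
        rw [hrc' y (by rw [hcenter]; exact hy), inv_mul_cancel]
        exact one_mem _
      · simp only [one_ne_zero, ↓reduceIte]
        have h1 := MulEquiv.congr_fun hr (y : N ⧸ Subgroup.center N)
        rw [MulAut.one_apply, topHom_mk, eq_comm, QuotientGroup.eq, hcenter] at h1
        exact h1
  · intro β hβ hm z hz
    obtain ⟨g, -, hg⟩ := mem_autInducedBy_iff.1 (Subgroup.mem_subgroupOf.1 hβ)
    have he1 : (β : MulAut N) e1N ∈ E.subgroupOf N := by
      rw [hEsup]
      rw [topHom_mk] at hm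
      obtain ⟨i, hi⟩ := hm
      change (e1N : N ⧸ Subgroup.center N) ^ i = _ at hi
      rw [← QuotientGroup.mk_zpow, QuotientGroup.eq] at hi
      rw [← mul_inv_cancel_left (e1N ^ i) ((β : MulAut N) e1N)]
      exact Subgroup.mul_mem_sup (Subgroup.zpow_mem _ (Subgroup.mem_zpowers _) i) hi
    have hgE : g ∈ N := by
      refine mem_normalizer_of_comm fun y hy => ?_
      have hyN : (⟨y, hEN hy⟩ : N) ∈ (E.subgroupOf N).comap (β : MulAut N).toMonoidHom := by
        refine (hEsup.le.trans (sup_le (Subgroup.zpowers_le.2 he1) ?_)) (show _ ∈ E.subgroupOf N from hy)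
        intro u hu
        rw [Subgroup.mem_comap, hEsup]
        refine Subgroup.mem_sup_right ?_
        have h1 : (β : MulAut N) u ∈ (Subgroup.center N).map (β : MulAut N).toMonoidHom := ⟨u, hu, rfl⟩
        rwa [Subgroup.characteristic_iff_map_eq.1 inferInstance (β : MulAut N)] at h1
      have h2 : ((((β : MulAut N) ⟨y, hEN hy⟩ : N)) : G) ∈ E := hyN
      rw [hg] at h2
      rw [commutatorElement_def]
      exact E.mul_mem h2 (E.inv_mem hy)
    refine Subtype.ext ?_
    rw [hg z]
    have hzc : (z : G) * g = g * z :=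
      (congrArg Subtype.val (Subgroup.mem_center_iff.1 hz ⟨g, hgE⟩)).symm
    rw [← hzc, mul_inv_cancel_right]
  · intro l hl
    obtain ⟨δ, hδe, hδw, hδe1, hδτ⟩ := htorus l hl
    set d : MulAut E := (δ : MulAut E) with hd
    set φ' : E →* G := E.subtype.comp d.toMonoidHom
    have hφ' : φ' ∈ F.Hom E := (mem_autGroup_iff F le_top).1 δ.2
    have hr' : φ'.range = E := range_subtype_comp d
    obtain ⟨-, hrec⟩ := fullyNormalized_props hTS hF hfn
    have hpow : ∀ g : N, δ * φ g * δ⁻¹ = φ g ^ (l * l).val := by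
      intro g
      obtain ⟨i, hi⟩ := hzr.ge ⟨g, rfl⟩
      rw [← show τ ^ i = φ g from hi, ← conj_zpow, hδτ, ← zpow_natCast, ← zpow_natCast, ← zpow_mul,
        ← zpow_mul, mul_comm]
    have hext : N ≤ Cfsg.FusionSystem.extender (⊤ : Subgroup G) E φ' := by
      intro g hg
      refine mem_extender_of_congr hφ' hr' (Subgroup.mem_top g) hg ?_
      have e1' : isoOf hφ' hr' = d := MulEquiv.ext fun y => Subtype.ext rfl
      have he : MulAut.congr (isoOf hφ' hr') (conjAut hg) =
          ((δ * φ ⟨g, hg⟩ * δ⁻¹ : F.autGroup E) : MulAut E) := by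
        rw [e1']
        exact MulEquiv.ext fun y => rfl
      rw [he, hpow]
      exact conjAut_mem_autInducedBy (g := g ^ (l * l).val) (pow_mem hg _) (Subgroup.mem_top _) |>
        (fun hh => by
          convert hh using 1
          rw [Subgroup.coe_pow]
          exact (map_pow E.normalizerMonoidHom ⟨g, hg⟩ _).symm)
    obtain ⟨ψ, hψ, hψE⟩ := exists_ext hrec hφ' hr' hEN hext
    have hψN : ∀ g : N, ψ g ∈ N := by
      intro g
      refine mem_normalizer_of_comm fun y hy => ?_
      obtain ⟨v, hv⟩ := d.surjective ⟨y, hy⟩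
      have e0 : ψ (Subgroup.inclusion hEN v) = y := (hψE v).trans (congrArg Subtype.val hv)
      rw [← e0, ← map_commutatorElement]
      have hm : (g : G) * v * (g : G)⁻¹ * (v : G)⁻¹ ∈ E :=
        E.mul_mem ((Subgroup.mem_normalizer_iff.1 g.2 _).1 v.2) (E.inv_mem v.2)
      rw [show ⁅g, Subgroup.inclusion hEN v⁆ = Subgroup.inclusion hEN ⟨_, hm⟩ from Subtype.ext rfl,
        hψE]
      exact (d ⟨_, hm⟩).2
    have hψr : ψ.range = N := by
      refine Subgroup.eq_of_le_of_card_ge ?_ ?_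
      · rintro _ ⟨g, rfl⟩; exact hψN g
      · exact (Nat.card_congr (MonoidHom.ofInjective (F.injective_of_mem hψ)).toEquiv).le
    refine ⟨⟨isoOf hψ hψr, isoOf_mem_autGroup hψ hψr⟩, ?_, ?_, ?_, fun g => ?_⟩
    · exact Subtype.ext ((hψE e).trans (congrArg Subtype.val hδe))
    · exact Subtype.ext ((hψE w).trans (congrArg Subtype.val hδw))
    · exact Subtype.ext ((hψE e1).trans (congrArg Subtype.val hδe1))
    · rw [← hEsup]
      set g' : N := ⟨ψ g, hψN g⟩
      show g' * (g ^ (l * l).val)⁻¹ ∈ E.subgroupOf N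
      refine Subgroup.mem_subgroupOf.2 (hker _ ?_)
      rw [map_mul, map_inv, map_pow, mul_inv_eq_one, ← hpow]
      refine Subtype.ext (MulEquiv.ext fun y => Subtype.ext ?_)
      obtain ⟨v, rfl⟩ := d.surjective y
      show ψ g * ((d v : E) : G) * (ψ g)⁻¹ =
        ((d (E.normalizerMonoidHom g (d⁻¹ (d v))) : E) : G)
      rw [MulAut.inv_apply_self]
      have e2 : ∀ u : E, ψ (Subgroup.inclusion hEN u) = ((d u : E) : G) := hψE
      rw [← e2, ← e2, ← map_inv, ← map_mul, ← map_mul]
      exact congrArg ψ (Subtype.ext rfl)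

end CfsgLib.Fus.EssentialElemCube
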