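import Cfsg.Agent.Fus.EssentialRankTwo

/-!
Automorphism groups with a strongly embedded subgroup acting on an elementary abelian group of order
`p ^ 3`: Sylow subgroups have order at most `p`; the torus of a pair of transvections.
-/

set_option autoImplicit false

namespace CfsgLib.Fus.EssentialElemCube

open CfsgLib.Fus.EssentialRankTwo CfsgLib.Fus.EssentialSmall

variable {V : Type*} [Group V] {p : ℕ} [Fact p.Prime]

/-- Displacement of an automorphism. -/
def disp (a : MulAut V) (v : V) : V := v⁻¹ * a v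

theorem mul_disp (a : MulAut V) (v : V) : v * disp a v = a v := mul_inv_cancel_left _ _

theorem disp_eq_one {a : MulAut V} {v : V} : disp a v = 1 ↔ a v = v := by
  rw [disp, inv_mul_eq_one, eq_comm]

theorem disp_mul (hc : ∀ x y : V, x * y = y * x) (a : MulAut V) (v w : V) :
    disp a (v * w) = disp a v * disp a w := by
  unfold disp
  rw [map_mul, mul_inv_rev, mul_assoc, hc w⁻¹ (v⁻¹ * (a v * a w)), mul_assoc, mul_assoc, mul_assoc,
    hc (a w) w⁻¹]

/-- The displacement as a homomorphism. -/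
def dispHom (hc : ∀ x y : V, x * y = y * x) (a : MulAut V) : V →* V where
  toFun := disp a
  map_one' := by simp [disp]
  map_mul' := disp_mul hc a

theorem dispHom_apply (hc : ∀ x y : V, x * y = y * x) (a : MulAut V) (v : V) :
    dispHom hc a v = disp a v := rfl

theorem disp_comm {a b : MulAut V} (h : Commute a b) (v : V) : b (disp a v) = disp a (b v) := by
  unfold disp
  rw [map_mul, map_inv]
  exact congrArg ((b v)⁻¹ * ·) (MulEquiv.congr_fun h.eq v).symm

/-- An automorphism all whose displacements are fixed shifts by them linearly. -/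
theorem pow_apply_of_fixed {a : MulAut V} {v : V} (h : a (disp a v) = disp a v) (n : ℕ) :
    (a ^ n) v = v * disp a v ^ n := by
  induction n with
  | zero => simp
  | succ n ih =>
    rw [pow_succ', MulAut.mul_apply, ih, map_mul, map_pow, h, pow_succ', ← mul_assoc, mul_disp]

theorem pow_apply_eq_self {a : MulAut V} {v : V} (h : a v = v) (n : ℕ) : (a ^ n) v = v := by
  induction n with
  | zero => rfl
  | succ n ih => rw [pow_succ', MulAut.mul_apply, ih, h]

variable [Finite V]

/-- An element of order `p` fixes a nontrivial element of every nontrivial invariant subgroup. -/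
theorem exists_fixed_mem (hV : IsPGroup p V) {a : MulAut V} (ha : a ^ p = 1) {W : Subgroup V}
    (hW : W ≠ ⊥) (hWa : ∀ x ∈ W, a x ∈ W) : ∃ x ∈ W, x ≠ 1 ∧ a x = x := by
  have hmem : ∀ (n : ℕ), ∀ x ∈ W, (a ^ n) x ∈ W := by
    intro n
    induction n with
    | zero => exact fun x hx => hx
    | succ n ih => intro x hx; rw [pow_succ', MulAut.mul_apply]; exact hWa _ (ih x hx)
  let b : MulAut W :=
    { toFun := fun x => ⟨a x, hWa x x.2⟩
      invFun := fun x => ⟨(a ^ (p - 1)) x, hmem _ x x.2⟩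
      left_inv := fun x => Subtype.ext (by
        show (a ^ (p - 1)) (a x) = x
        rw [← MulAut.mul_apply, ← pow_succ, Nat.sub_add_cancel (Fact.out : p.Prime).one_le, ha,
          MulAut.one_apply])
      right_inv := fun x => Subtype.ext (by
        show a ((a ^ (p - 1)) x) = x
        rw [← MulAut.mul_apply, ← pow_succ', Nat.sub_add_cancel (Fact.out : p.Prime).one_le, ha,
          MulAut.one_apply])
      map_mul' := fun x y => Subtype.ext (map_mul a (x : V) y) }
  have hb : ∀ (n : ℕ) (x : W), ((b ^ n) x : V) = (a ^ n) x := by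
    intro n
    induction n with
    | zero => intro x; rfl
    | succ n ih => intro x; rw [pow_succ', MulAut.mul_apply, pow_succ', MulAut.mul_apply, ← ih]; rfl
  have hbp : b ^ p = 1 := MulEquiv.ext fun x => Subtype.ext (by rw [hb, ha]; rfl)
  have hP : IsPGroup p (Subgroup.zpowers b) := by
    rintro ⟨_, k, rfl⟩
    refine ⟨1, Subtype.ext ?_⟩
    show (b ^ k) ^ p ^ 1 = 1
    rw [pow_one, ← zpow_natCast, ← zpow_mul, mul_comm, zpow_mul, zpow_natCast, hbp, one_zpow]
  have : Nontrivial W := (Subgroup.nontrivial_iff_ne_bot W).2 hW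
  obtain ⟨m, hm, hcard⟩ := (hV.to_subgroup W).nontrivial_iff_card.1 this
  have h1 : (1 : W) ∈ MulAction.fixedPoints (Subgroup.zpowers b) W := fun g => map_one (g : MulAut W)
  obtain ⟨x, hx, hne⟩ := hP.exists_fixed_point_of_prime_dvd_card_of_fixed_point W
    (hcard ▸ dvd_pow_self p hm.ne') h1
  exact ⟨x, x.2, fun h => hne (Subtype.ext h.symm),
    congrArg Subtype.val (hx ⟨b, Subgroup.mem_zpowers b⟩)⟩

/-- A `p`-element stabilising a cyclic subgroup of order `p` centralises it. -/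
theorem fix_of_stabilizes {a : MulAut V} {k : ℕ} (ha : a ^ p ^ k = 1) {e : V} (he : orderOf e = p)
    (h : a e ∈ Subgroup.zpowers e) : a e = e := by
  have h1 := inv_mul_mem_of_relIndex (N := ⊥) (M := Subgroup.zpowers e) ha inferInstance
    (by rw [Subgroup.relIndex_bot_left, Nat.card_zpowers, he])
    (fun x hx => by
      obtain ⟨i, rfl⟩ := hx
      rw [map_zpow]
      exact Subgroup.zpow_mem _ h i)
    (fun x hx => by rw [Subgroup.mem_bot] at hx ⊢; rw [hx, map_one]) e (Subgroup.mem_zpowers e)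
  rw [Subgroup.mem_bot, inv_mul_eq_one] at h1
  exact h1.symm

/-- Data of a strongly embedded pair: `M` is trivial-intersection for elements of order `p`. -/
structure TIData (p : ℕ) (V : Type*) [Group V] (A : Subgroup (MulAut V)) (M : Subgroup A) : Prop where
  ne_top : M ≠ ⊤
  mem_of_conj : ∀ {x g : A}, x ∈ M → orderOf x = p → g * x * g⁻¹ ∈ M → g ∈ M

variable {A : Subgroup (MulAut V)} {M : Subgroup A}

theorem TIData.mem_of_commute (h : TIData p V A M) {x g : A} (hx : x ∈ M) (hxp : orderOf x = p)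
    (hc : Commute g x) : g ∈ M :=
  h.mem_of_conj hx hxp (by rw [hc.eq, mul_inv_cancel_right]; exact hx)

/-- Conjugates of a transvection outside `M` move each other's centres. -/
theorem moves_conj (hV : ∀ x y : V, x * y = y * x) (hexp : ∀ x : V, x ^ p = 1) (hTI : TIData p V A M)
    {τ : A} (hτ : τ ∈ M) (hτp : orderOf τ = p) {e : V} (he : (τ : MulAut V) e = e)
    (him : ∀ v, disp (τ : MulAut V) v ∈ Subgroup.zpowers e) {k : A} (hk : k ∉ M) :
    (τ : MulAut V) ((k : MulAut V) e) ≠ (k : MulAut V) e := by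
  intro hfix
  set t : MulAut V := (τ : MulAut V) with ht
  set σA : A := k * τ * k⁻¹ with hσA
  set s : MulAut V := (σA : MulAut V) with hs
  set e' := (k : MulAut V) e with he'
  have hsv : ∀ v, s v = (k : MulAut V) (t (((k : MulAut V))⁻¹ v)) := fun v => rfl
  have hse : s e' = e' := by rw [hsv, he', MulAut.inv_apply_self, he]
  have himS : ∀ v, disp s v ∈ Subgroup.zpowers e' := by
    intro v
    obtain ⟨i, hi⟩ := him ((k : MulAut V)⁻¹ v)
    refine ⟨i, ?_⟩
    show e' ^ i = _
    rw [he', ← map_zpow, show e ^ i = _ from hi]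
    simp [disp, hsv]
  have hD : ∀ {a : MulAut V} {x : V}, a x = x → ∀ y ∈ Subgroup.zpowers x, disp a y = 1 := by
    rintro a x hx _ ⟨i, rfl⟩
    rw [disp_eq_one, map_zpow, hx]
  set D := dispHom hV t
  set D' := dispHom hV s
  have hDD : ∀ v, D (D v) = 1 := fun v => hD he _ (him v)
  have hD'D' : ∀ v, D' (D' v) = 1 := fun v => hD hse _ (himS v)
  have hDD' : ∀ v, D (D' v) = 1 := fun v => hD hfix _ (himS v)
  have happ : ∀ v, t v = v * D v := fun v => (mul_disp t v).symm
  have happ' : ∀ v, s v = v * D' v := fun v => (mul_disp s v).symm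
  set cA : A := σA * τ * σA⁻¹ * τ⁻¹ with hcA
  set c : MulAut V := (cA : MulAut V) with hc
  have hcts : ∀ v, c (t (s v)) = s (t v) := fun v => by
    show s (t (s⁻¹ (t⁻¹ (t (s v))))) = s (t v)
    rw [MulAut.inv_apply_self, MulAut.inv_apply_self]
  have hcv : ∀ w, c w = w * D' (D w) := by
    intro w
    obtain ⟨v, rfl⟩ : ∃ v, t (s v) = w := ⟨s⁻¹ (t⁻¹ w), by simp⟩
    have e1 : t (s v) = v * D' v * D v := by
      rw [happ, happ', map_mul, hDD', mul_one]
    have e2 : D (v * D' v * D v) = D v := by rw [map_mul, map_mul, hDD', hDD, mul_one, mul_one]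
    rw [hcts, e1, e2, happ' (t v), happ v, map_mul,
      mul_assoc, mul_assoc, mul_assoc, hV (D v) (D' v * D' (D v)), mul_assoc]
    congr 2
    rw [hV]
  have hct : Commute cA τ := by
    refine Subtype.ext (MulEquiv.ext fun w => ?_)
    show c (t w) = t (c w)
    rw [hcv, hcv, map_mul t, happ (D' (D w)), hDD', mul_one]
    congr 1
    rw [happ, map_mul, hDD, mul_one]
  have hcs : Commute cA σA := by
    refine Subtype.ext (MulEquiv.ext fun w => ?_)
    show c (s w) = s (c w)
    rw [hcv, hcv, map_mul s, happ' (D' (D w)), hD'D', mul_one]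
    congr 1
    rw [happ', map_mul, hDD', mul_one]
  have hσk : ∀ x : A, k⁻¹ * x * k * τ = τ * (k⁻¹ * x * k) ↔ Commute x σA := fun x => by
    rw [hσA, commute_iff_eq]
    constructor
    · intro h
      calc x * (k * τ * k⁻¹) = k * (k⁻¹ * x * k * τ) * k⁻¹ := by group
        _ = k * (τ * (k⁻¹ * x * k)) * k⁻¹ := by rw [h]
        _ = k * τ * k⁻¹ * x := by group
    · intro h
      calc k⁻¹ * x * k * τ = k⁻¹ * (x * (k * τ * k⁻¹)) * k := by group
        _ = k⁻¹ * (k * τ * k⁻¹ * x) * k := by rw [h]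
        _ = τ * (k⁻¹ * x * k) := by group
  by_cases hc1 : cA = 1
  · have hcomm : Commute τ σA := by
      have h1 : σA * τ = τ * σA := by
        calc σA * τ = cA * τ * σA := by rw [hcA]; group
          _ = τ * σA := by rw [hc1, one_mul]
      exact h1.symm
    exact hk (hTI.mem_of_conj hτ hτp (hTI.mem_of_commute hτ hτp hcomm.symm))
  have hcp : orderOf cA = p := by
    refine orderOf_eq_prime ?_ hc1
    refine Subtype.ext (MulEquiv.ext fun w => ?_)
    show (c ^ p) w = w
    have hd : disp c w = D' (D w) := by rw [disp, hcv, inv_mul_cancel_left]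
    rw [pow_apply_of_fixed (by rw [hd, hcv, hDD', map_one, mul_one]), hexp, mul_one]
  have hcM : cA ∈ M := hTI.mem_of_commute hτ hτp hct
  have hcM' : k⁻¹ * cA * k ∈ M := hTI.mem_of_commute hτ hτp ((hσk cA).2 hcs)
  refine hk (hTI.mem_of_conj hcM' ?_ (by rwa [show k * (k⁻¹ * cA * k) * k⁻¹ = cA by group]))
  rw [← hcp]
  exact (SemiconjBy.orderOf_eq k (show k * (k⁻¹ * cA * k) = cA * k by group))

theorem card_ker_mul_range (f : V →* V) : Nat.card f.ker * Nat.card f.range = Nat.card V := by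
  rw [← Subgroup.index_ker]
  exact f.ker.card_mul_index

theorem exists_ne_one_inf (hcard : Nat.card V = p ^ 3) {H K : Subgroup V} (hH : p ^ 2 ≤ Nat.card H)
    (hK : p ^ 2 ≤ Nat.card K) : ∃ y ∈ H, y ∈ K ∧ y ≠ 1 := by
  have hp : p.Prime := Fact.out
  by_contra hne
  push Not at hne
  have hinj : Function.Injective (fun q : H × K => (q.1 : V) * q.2) := by
    intro a b hab
    have h1 : (b.1 : V)⁻¹ * a.1 = b.2 * (a.2 : V)⁻¹ := by
      rw [eq_mul_inv_iff_mul_eq, mul_assoc, inv_mul_eq_iff_eq_mul]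
      exact hab
    have h2 := hne _ (H.mul_mem (H.inv_mem b.1.2) a.1.2) (h1 ▸ K.mul_mem b.2.2 (K.inv_mem a.2.2))
    have h3 : (b.1 : V) = a.1 := inv_mul_eq_one.1 h2
    refine Prod.ext (Subtype.ext h3.symm) (Subtype.ext ?_)
    rw [h2, eq_comm, mul_inv_eq_one] at h1
    exact h1.symm
  have h := Nat.card_le_card_of_injective _ hinj
  rw [Nat.card_prod, hcard] at h
  have h2 := (Nat.mul_le_mul hH hK).trans h
  rw [← pow_add, Nat.pow_le_pow_iff_right hp.one_lt] at h2
  omega

/-- A transvection has an image of order `p`. -/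
theorem transvection_data (hc : ∀ x y : V, x * y = y * x) (hexp : ∀ x : V, x ^ p = 1)
    (hcard : Nat.card V = p ^ 3) {a : MulAut V} (ha : a ≠ 1) (h2 : ∀ v, disp a (disp a v) = 1) :
    ∃ e, e ≠ 1 ∧ a e = e ∧ (∀ v, disp a v ∈ Subgroup.zpowers e) ∧
      Nat.card (dispHom hc a).ker = p ^ 2 := by
  have hp : p.Prime := Fact.out
  set D := dispHom hc a
  have hle : D.range ≤ D.ker := by rintro _ ⟨v, rfl⟩; exact h2 v
  have hne : D.range ≠ ⊥ := fun h => ha (MulEquiv.ext fun v => by
    have hv : D v ∈ D.range := ⟨v, rfl⟩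
    rw [h, Subgroup.mem_bot] at hv
    exact disp_eq_one.1 hv)
  have hprod := card_ker_mul_range D
  rw [hcard] at hprod
  obtain ⟨i, -, hi⟩ := (Nat.dvd_prime_pow hp).1 (hcard ▸ D.range.card_subgroup_dvd_card)
  obtain ⟨j, -, hj⟩ := (Nat.dvd_prime_pow hp).1 (hcard ▸ D.ker.card_subgroup_dvd_card)
  rw [hi, hj, ← pow_add] at hprod
  have h3 := Nat.pow_right_injective hp.two_le hprod
  have h4 := Subgroup.card_le_of_le hle
  rw [hi, hj, Nat.pow_le_pow_iff_right hp.one_lt] at h4
  have h5 : i ≠ 0 := fun h0 => hne (Subgroup.card_eq_one.1 (by rw [hi, h0, pow_zero]))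
  obtain ⟨e, heD, he⟩ := (Subgroup.ne_bot_iff_exists_ne_one).1 hne |> fun ⟨x, hx⟩ =>
    (⟨(x : V), x.2, fun h => hx (Subtype.ext h)⟩ : ∃ e, e ∈ D.range ∧ e ≠ 1)
  have hz : Subgroup.zpowers e = D.range := Subgroup.eq_of_le_of_card_ge (Subgroup.zpowers_le.2 heD)
    (by rw [Nat.card_zpowers, orderOf_eq_prime (hexp e) he, hi, show i = 1 by omega, pow_one])
  refine ⟨e, he, disp_eq_one.1 (hle heD), fun v => hz.ge ⟨v, rfl⟩, ?_⟩
  rw [hj, show j = 2 by omega]

/-- A `p`-subgroup of order at least `p ^ 2` has a central transvection. -/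
theorem exists_central_transvection (hc : ∀ x y : V, x * y = y * x) (hexp : ∀ x : V, x ^ p = 1)
    (hcard : Nat.card V = p ^ 3) {P : Subgroup A} (hP : IsPGroup p P) (hP2 : p ^ 2 ≤ Nat.card P) :
    ∃ τ ∈ P, orderOf τ = p ∧ (∀ g ∈ P, Commute g τ) ∧
      ∀ v, disp (τ : MulAut V) (disp (τ : MulAut V) v) = 1 := by
  have hp : p.Prime := Fact.out
  have hVp : IsPGroup p V := IsPGroup.of_card hcard
  have hPne : P ≠ ⊥ := fun h => by
    rw [h, Subgroup.card_bot] at hP2
    have := Nat.one_lt_pow two_ne_zero hp.one_lt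
    omega
  have : Finite (MulAut V) := Finite.of_injective (fun a => (a : V → V)) fun a b h =>
    MulEquiv.ext fun v => congrFun h v
  obtain ⟨z, hzP, hzp, hzc⟩ := LocalCharP.exists_central_orderOf_eq hP hPne
  by_cases h2 : ∀ v, disp (z : MulAut V) (disp (z : MulAut V) v) = 1
  · exact ⟨z, hzP, hzp, fun g hg => hzc g hg, h2⟩
  push Not at h2
  obtain ⟨v, hv⟩ := h2
  set ζ : MulAut V := (z : MulAut V)
  have hζp : ζ ^ p = 1 := congrArg Subtype.val (orderOf_dvd_iff_pow_eq_one.1 hzp.dvd)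
  set D := dispHom hc ζ
  set R1 := D.range
  set R2 := R1.map D
  set R3 := R2.map D
  have hD : ∀ w, ζ w = w * D w := fun w => (mul_disp ζ w).symm
  have hstable : ∀ W : Subgroup V, W.map D ≤ W → ∀ x ∈ W, ζ x ∈ W := fun W hW x hx => by
    rw [hD]; exact W.mul_mem hx (hW ⟨x, hx, rfl⟩)
  -- the image strictly decreases
  have hlt : ∀ W : Subgroup V, W ≠ ⊥ → W.map D ≤ W → Nat.card (W.map D) < Nat.card W := by
    intro W hW hle
    obtain ⟨x, hx, hx1, hfix⟩ := exists_fixed_mem hVp hζp hW (hstable W hle)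
    refine lt_of_le_of_ne (Subgroup.card_le_of_le hle) fun heq => hx1 ?_
    have hfun : Function.Bijective (fun w : W => (⟨D w, w, w.2, rfl⟩ : W.map D)) :=
      (show Function.Surjective _ from by
        rintro ⟨_, w, hw, rfl⟩; exact ⟨⟨w, hw⟩, rfl⟩).bijective_of_nat_card_le heq.ge
    have h1 : D x = D 1 := by rw [map_one]; exact disp_eq_one.2 hfix
    exact congrArg Subtype.val (@hfun.1 ⟨x, hx⟩ ⟨1, one_mem W⟩ (Subtype.ext h1))
  have hR1 : R1 = (⊤ : Subgroup V).map D := MonoidHom.range_eq_map D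
  have hR21 : R2 ≤ R1 := hR1 ▸ Subgroup.map_mono le_top
  have hR32 : R3 ≤ R2 := Subgroup.map_mono hR21
  have hR2ne : R2 ≠ ⊥ := fun h => hv (by
    have : D (D v) ∈ R2 := ⟨D v, ⟨v, rfl⟩, rfl⟩
    rwa [h, Subgroup.mem_bot] at this)
  have hR1ne : R1 ≠ ⊥ := fun h => hR2ne (by show R1.map D = ⊥; rw [h, Subgroup.map_bot])
  have hc1 : Nat.card R1 < p ^ 3 := by
    have h0 := hlt ⊤ (fun h => hR1ne (by rw [hR1, h, Subgroup.map_bot])) le_top
    rwa [Subgroup.card_top, hcard, ← hR1] at h0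
  have hc2 := hlt R1 hR1ne hR21
  have hc3 := hlt R2 hR2ne hR32
  obtain ⟨i1, -, hi1⟩ := (Nat.dvd_prime_pow hp).1 (hcard ▸ R1.card_subgroup_dvd_card)
  obtain ⟨i2, -, hi2⟩ := (Nat.dvd_prime_pow hp).1 (hcard ▸ R2.card_subgroup_dvd_card)
  obtain ⟨i3, -, hi3⟩ := (Nat.dvd_prime_pow hp).1 (hcard ▸ R3.card_subgroup_dvd_card)
  change Nat.card R2 < Nat.card R1 at hc2
  change Nat.card R3 < Nat.card R2 at hc3
  rw [hi1, Nat.pow_lt_pow_iff_right hp.one_lt] at hc1
  rw [hi1, hi2, Nat.pow_lt_pow_iff_right hp.one_lt] at hc2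
  rw [hi2, hi3, Nat.pow_lt_pow_iff_right hp.one_lt] at hc3
  have hi2' : i2 ≠ 0 := fun h0 => hR2ne (Subgroup.card_eq_one.1 (by rw [hi2, h0, pow_zero]))
  obtain ⟨rfl, rfl, rfl⟩ : i1 = 2 ∧ i2 = 1 ∧ i3 = 0 := by omega
  rw [pow_zero] at hi3
  have hR3 : R3 = ⊥ := Subgroup.card_eq_one.1 hi3
  set w := D v with hw
  set u := D w with hu
  have hu2 : u ∈ R2 := ⟨w, ⟨v, rfl⟩, rfl⟩
  have hDu : D u = 1 := by
    have : D u ∈ R3 := ⟨u, hu2, rfl⟩
    rwa [hR3, Subgroup.mem_bot] at this
  have hu1 : u ≠ 1 := hv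
  -- everything is determined by the image of `v`
  have hgen : ∀ W : Subgroup V, v ∈ W → w ∈ W → u ∈ W → W = ⊤ := by
    intro W hvW hwW huW
    set K1 := Subgroup.zpowers u
    set K2 := K1 ⊔ Subgroup.zpowers w
    have hK1D : ∀ x ∈ K1, D x = 1 := by
      rintro _ ⟨i, rfl⟩
      rw [map_zpow, hDu, one_zpow]
    have hK2D : ∀ x ∈ K2, D x ∈ K1 := by
      intro x hx
      refine (show K2 ≤ K1.comap D from sup_le (fun y hy => ?_) (Subgroup.zpowers_le.2 ?_)) hx
      · rw [Subgroup.mem_comap, hK1D y hy]; exact one_mem _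
      · exact Subgroup.mem_zpowers u
    have hw1 : w ∉ K1 := fun h => hu1 (hK1D w h)
    have hv2 : v ∉ K2 := fun h => hw1 (hK2D v h)
    have hs : K2 ≤ W := sup_le (Subgroup.zpowers_le.2 huW) (Subgroup.zpowers_le.2 hwW)
    have l1 : K1 < K2 := lt_of_le_of_ne le_sup_left fun h =>
      hw1 (h.ge (Subgroup.mem_sup_right (Subgroup.mem_zpowers w)))
    have l2 : K2 < W := lt_of_le_of_ne hs fun h => hv2 (h.ge hvW)
    have l0 : (⊥ : Subgroup V) < K1 := bot_lt_iff_ne_bot.2 (by rwa [Ne, Subgroup.zpowers_eq_bot])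
    have i0 := Subgroup.index_strictAnti l0
    have i1 := Subgroup.index_strictAnti l1
    have i2 := Subgroup.index_strictAnti l2
    obtain ⟨a, -, ha⟩ := (Nat.dvd_prime_pow hp).1 (hcard ▸ K1.index_dvd_card)
    obtain ⟨b, -, hb⟩ := (Nat.dvd_prime_pow hp).1 (hcard ▸ K2.index_dvd_card)
    obtain ⟨d, -, hd⟩ := (Nat.dvd_prime_pow hp).1 (hcard ▸ W.index_dvd_card)
    rw [Subgroup.index_bot, hcard, ha, Nat.pow_lt_pow_iff_right hp.one_lt] at i0
    rw [ha, hb, Nat.pow_lt_pow_iff_right hp.one_lt] at i1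
    rw [hb, hd, Nat.pow_lt_pow_iff_right hp.one_lt] at i2
    refine Subgroup.index_eq_one.1 ?_
    rw [hd, show d = 0 by omega, pow_zero]
  have hinj : ∀ g ∈ P, ∀ h ∈ P, (g : MulAut V) v = (h : MulAut V) v → g = h := by
    intro g hg h hh he
    have hcg : Commute ζ (g : MulAut V) := (congrArg Subtype.val (hzc g hg)).symm
    have hch : Commute ζ (h : MulAut V) := (congrArg Subtype.val (hzc h hh)).symm
    have h1 : (g : MulAut V) w = (h : MulAut V) w := by
      show (g : MulAut V) (disp ζ v) = (h : MulAut V) (disp ζ v)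
      rw [disp_comm hcg, disp_comm hch, he]
    have h2 : (g : MulAut V) u = (h : MulAut V) u := by
      show (g : MulAut V) (disp ζ w) = (h : MulAut V) (disp ζ w)
      rw [disp_comm hcg, disp_comm hch, h1]
    have htop := hgen (MonoidHom.eqLocus ((g : MulAut V) : V →* V) ((h : MulAut V) : V →* V)) he h1 h2
    refine Subtype.ext (MulEquiv.ext fun x => ?_)
    have hx : x ∈ MonoidHom.eqLocus ((g : MulAut V) : V →* V) ((h : MulAut V) : V →* V) :=
      htop ▸ Subgroup.mem_top x
    exact hx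
  -- `P` moves `v` inside `v R1`
  have hR1inv : ∀ g ∈ P, ∀ x ∈ R1, (g : MulAut V) x ∈ R1 := by
    rintro g hg _ ⟨x, rfl⟩
    exact ⟨(g : MulAut V) x, (disp_comm (congrArg Subtype.val (hzc g hg)).symm x).symm⟩
  have hmove : ∀ g ∈ P, v⁻¹ * (g : MulAut V) v ∈ R1 := by
    intro g hg
    obtain ⟨k, hk⟩ := hP ⟨g, hg⟩
    have hk' : (g : MulAut V) ^ p ^ k = 1 := congrArg (fun x : P => ((x : A) : MulAut V)) hk
    refine inv_mul_mem_of_relIndex (M := ⊤) hk' ?_ ?_ (fun _ _ => Subgroup.mem_top _) (hR1inv g hg) v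
      (Subgroup.mem_top v)
    · exact ⟨fun x hx y => by
        rwa [show y * x * y⁻¹ = x from Subtype.ext (by simp [hc (y : V) x])]⟩
    · rw [relIndex_eq_of_card le_top (m := p) (by rw [Subgroup.card_top, hcard, hi1, ← pow_succ'])]
  let f : P → R1 := fun g => ⟨v⁻¹ * (g : A).1 v, hmove g g.2⟩
  have hf : Function.Injective f := fun a b hab =>
    Subtype.ext (hinj a a.2 b b.2 (mul_left_cancel (congrArg Subtype.val hab)))
  obtain ⟨g, hg⟩ := (hf.bijective_of_nat_card_le (hi1.le.trans hP2)).2 ⟨u, hR21 hu2⟩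
  have hgv : (g : A).1 v = v * u := by
    rw [← show v⁻¹ * (g : A).1 v = u from congrArg Subtype.val hg, mul_inv_cancel_left]
  have hcg : Commute ζ (g : A).1 := (congrArg Subtype.val (hzc g g.2)).symm
  have hgw : (g : A).1 w = w := by
    show (g : A).1 (disp ζ v) = disp ζ v
    rw [disp_comm hcg, hgv, disp_mul hc, disp_eq_one.2 (show ζ u = u by rw [hD, hDu, mul_one]), mul_one]
  have hgu : (g : A).1 u = u := by
    show (g : A).1 (disp ζ w) = disp ζ w
    rw [disp_comm hcg, hgw]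
  have hfix : ∀ x ∈ R1, (g : A).1 x = x := by
    rintro _ ⟨x, rfl⟩
    have htop := hgen
      ((MonoidHom.eqLocus ((g : A).1 : V →* V) (MonoidHom.id V)).comap D)
      hgw hgu (by rw [Subgroup.mem_comap, hDu]; exact one_mem _)
    have hx : x ∈ (MonoidHom.eqLocus ((g : A).1 : V →* V) (MonoidHom.id V)).comap D :=
      htop ▸ Subgroup.mem_top x
    exact hx
  refine ⟨g, g.2, orderOf_eq_prime ?_ ?_, fun h hh => ?_, fun x => ?_⟩
  · refine Subtype.ext ?_
    show (g : A).1 ^ p = 1
    have hv' : ((g : A).1 ^ p) v = v := by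
      have hd : disp (g : A).1 v = u := by rw [disp, hgv, inv_mul_cancel_left]
      rw [pow_apply_of_fixed (by rw [hd, hgu]), hexp, mul_one]
    have htop := hgen (MonoidHom.eqLocus (((g : A).1 ^ p : MulAut V) : V →* V) (MonoidHom.id V)) hv'
      (pow_apply_eq_self hgw p) (pow_apply_eq_self hgu p)
    refine MulEquiv.ext fun x => ?_
    have hx : x ∈ MonoidHom.eqLocus (((g : A).1 ^ p : MulAut V) : V →* V) (MonoidHom.id V) :=
      htop ▸ Subgroup.mem_top x
    exact hx
  · intro h1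
    refine hu1 ?_
    have : v * u = v := by rw [← hgv, h1]; rfl
    exact mul_eq_left.1 this
  · refine hinj _ (P.mul_mem hh g.2) _ (P.mul_mem g.2 hh) ?_
    have hht : v⁻¹ * (h : MulAut V) v ∈ R1 := hmove h hh
    show (h : MulAut V) ((g : A).1 v) = (g : A).1 ((h : MulAut V) v)
    have hhu : (h : MulAut V) u = u := by
      obtain ⟨k, hk⟩ := hP ⟨h, hh⟩
      refine fix_of_stabilizes (k := k) (congrArg (fun x : P => ((x : A) : MulAut V)) hk)
        (orderOf_eq_prime (hexp u) hu1) ?_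
      have h2 : R2 = Subgroup.zpowers u := (Subgroup.eq_of_le_of_card_ge (Subgroup.zpowers_le.2 hu2)
        (by rw [hi2, pow_one, Nat.card_zpowers, orderOf_eq_prime (hexp u) hu1])).symm
      rw [← h2]
      obtain ⟨x, hx, hxu⟩ := hu2
      rw [← hxu]
      exact ⟨(h : MulAut V) x, hR1inv h hh x hx,
        (disp_comm (congrArg Subtype.val (hzc h hh)).symm x).symm⟩
    rw [← mul_inv_cancel_left v ((h : MulAut V) v), map_mul _ v (v⁻¹ * _), hgv, map_mul, hhu,
      hfix _ hht, mul_assoc v u, hc u, ← mul_assoc v, mul_inv_cancel_left]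
  · rw [disp_eq_one]
    have htop := hgen (R1.comap (dispHom hc (g : A).1))
      (by show disp _ v ∈ R1; rw [disp, hgv, inv_mul_cancel_left]; exact hR21 hu2)
      (by show disp _ w ∈ R1; rw [disp_eq_one.2 hgw]; exact one_mem _)
      (by show disp _ u ∈ R1; rw [disp_eq_one.2 hgu]; exact one_mem _)
    have hx : x ∈ R1.comap (dispHom hc (g : A).1) := htop ▸ Subgroup.mem_top x
    exact hfix _ hx

/-- A `p`-subgroup of `M` has order at most `p`. -/
theorem card_le_of_mem (hc : ∀ x y : V, x * y = y * x) (hexp : ∀ x : V, x ^ p = 1)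
    (hcard : Nat.card V = p ^ 3) (hTI : TIData p V A M) {P : Subgroup A} (hP : IsPGroup p P)
    (hPM : P ≤ M) : Nat.card P ≤ p := by
  have hp : p.Prime := Fact.out
  have : Finite (MulAut V) := Finite.of_injective (fun a => (a : V → V)) fun a b h =>
    MulEquiv.ext fun v => congrFun h v
  by_contra hlt
  have hP2 : p ^ 2 ≤ Nat.card P := by
    obtain ⟨i, hi⟩ := IsPGroup.iff_card.1 hP
    rw [hi] at hlt ⊢
    refine Nat.pow_le_pow_right hp.pos ?_
    by_contra hc'
    exact hlt ((Nat.pow_le_pow_right hp.pos (show i ≤ 1 by omega)).trans (pow_one p).le)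
  obtain ⟨τ, hτP, hτp, hτc, h2⟩ := exists_central_transvection hc hexp hcard hP hP2
  set t : MulAut V := (τ : MulAut V)
  have ht1 : t ≠ 1 := fun h => by
    rw [show τ = 1 from Subtype.ext h, orderOf_one] at hτp
    exact hp.one_lt.ne hτp
  obtain ⟨e, he1, hte, him, hker⟩ := transvection_data hc hexp hcard ht1 h2
  set D := dispHom hc t
  obtain ⟨k, hk⟩ : ∃ k, k ∉ M := by
    by_contra hall
    push Not at hall
    exact hTI.ne_top ((Subgroup.eq_top_iff' M).2 hall)
  set e1 := (k : MulAut V) e with he1'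
  set σA : A := k * τ * k⁻¹
  set s : MulAut V := (σA : MulAut V)
  have hse : s e1 = e1 := by
    show (k : MulAut V) (t ((k : MulAut V)⁻¹ ((k : MulAut V) e))) = _
    rw [MulAut.inv_apply_self, hte]
  have hmv : ∀ g ∈ P, g ≠ 1 → s ((g : MulAut V) e1) ≠ (g : MulAut V) e1 := by
    intro g hg hg1 hs
    obtain ⟨i, hi⟩ := exists_prime_orderOf_dvd_card' (G := Subgroup.zpowers g) p (by
      rw [Nat.card_zpowers]
      obtain ⟨j, hj⟩ := IsPGroup.iff_card.1 (hP.to_le (Subgroup.zpowers_le.2 hg))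
      rw [Nat.card_zpowers] at hj
      rw [hj]
      refine dvd_pow_self p fun h0 => hg1 (orderOf_eq_one_iff.1 ?_)
      rw [hj, h0, pow_zero])
    have hgi : orderOf (i : A) = p := by rw [Subgroup.orderOf_coe, hi]
    refine moves_conj hc hexp hTI (hPM hτP) hτp hte him (k := k⁻¹ * g * k) (fun hM => hk ?_) ?_
    · obtain ⟨j, hj⟩ := i.2
      have hiM : k⁻¹ * (i : A) * k ∈ M := by
        rw [← hj]
        have := M.zpow_mem hM j
        rwa [show (k⁻¹ * g * k) ^ j = k⁻¹ * g ^ j * k by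
          conv_lhs => rw [show k⁻¹ * g * k = k⁻¹ * g * (k⁻¹)⁻¹ by group, conj_zpow]
          group] at this
      have := hTI.mem_of_conj (x := (i : A)) (g := k⁻¹)
        (hPM ((Subgroup.zpowers_le.2 hg) i.2)) hgi (by rwa [inv_inv])
      simpa using M.inv_mem this
    · show t ((k : MulAut V)⁻¹ ((g : MulAut V) ((k : MulAut V) e))) =
        (k : MulAut V)⁻¹ ((g : MulAut V) ((k : MulAut V) e))
      have hs' : (k : MulAut V) (t ((k : MulAut V)⁻¹ ((g : MulAut V) e1))) = (g : MulAut V) e1 := hs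
      conv_rhs => rw [← he1', ← hs', MulAut.inv_apply_self]
  have hcoset : ∀ g ∈ P, e1⁻¹ * (g : MulAut V) e1 ∈ D.ker := by
    intro g hg
    have hcg : Commute t (g : MulAut V) := (congrArg Subtype.val (hτc g hg)).symm
    have hge : (g : MulAut V) e = e := by
      obtain ⟨j, hj⟩ := hP ⟨g, hg⟩
      refine fix_of_stabilizes (k := j) (congrArg (fun x : P => ((x : A) : MulAut V)) hj)
        (orderOf_eq_prime (hexp e) he1) ?_
      obtain ⟨v, hv⟩ : ∃ v, disp t v ≠ 1 := by
        by_contra hall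
        push Not at hall
        exact ht1 (MulEquiv.ext fun v => disp_eq_one.1 (hall v))
      have hz : e ∈ Subgroup.zpowers (disp t v) := by
        obtain ⟨a, ha⟩ := him v
        have hle : Subgroup.zpowers (disp t v) ≤ Subgroup.zpowers e :=
          Subgroup.zpowers_le.2 ⟨a, ha⟩
        rw [Subgroup.eq_of_le_of_card_ge hle
          (by rw [Nat.card_zpowers, Nat.card_zpowers, orderOf_eq_prime (hexp e) he1,
            orderOf_eq_prime (hexp _) hv])]
        exact Subgroup.mem_zpowers e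
      obtain ⟨i, hi⟩ := hz
      rw [show e = disp t v ^ i from hi.symm, map_zpow, disp_comm hcg]
      exact Subgroup.zpow_mem _ (by rw [show disp t v ^ i = e from hi]; exact him _) i
    rw [MonoidHom.mem_ker, map_mul, map_inv, inv_mul_eq_one]
    show disp t e1 = disp t ((g : MulAut V) e1)
    rw [← disp_comm hcg]
    obtain ⟨i, hi⟩ := him e1
    rw [← show e ^ i = disp t e1 from hi, map_zpow, hge]
  let f : P → D.ker := fun g => ⟨e1⁻¹ * (g : A).1 e1, hcoset g g.2⟩
  have hf : Function.Injective f := by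
    intro a b hab
    have hab' : (a : A).1 e1 = (b : A).1 e1 := mul_left_cancel (congrArg Subtype.val hab)
    by_contra hne
    refine hmv _ (P.mul_mem (P.inv_mem b.2) a.2) (fun h1 => hne ?_) ?_
    · exact Subtype.ext (inv_mul_eq_one.1 h1).symm
    · show s (((b : A).1)⁻¹ ((a : A).1 e1)) = ((b : A).1)⁻¹ ((a : A).1 e1)
      rw [hab', MulAut.inv_apply_self, hse]
  have hsker : p ^ 2 ≤ Nat.card (dispHom hc s).ker := by
    rw [← hker]
    refine Nat.card_le_card_of_injective (fun x : D.ker => ⟨(k : MulAut V) x, ?_⟩) fun x y hxy =>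
      Subtype.ext ((k : MulAut V).injective (congrArg Subtype.val hxy))
    rw [MonoidHom.mem_ker]
    refine disp_eq_one.2 ?_
    show (k : MulAut V) (t ((k : MulAut V)⁻¹ ((k : MulAut V) x))) = _
    rw [MulAut.inv_apply_self, disp_eq_one.1 (show disp t x = 1 from x.2)]
  obtain ⟨y, hyD, hys, hy1⟩ := exists_ne_one_inf hcard hker.ge hsker
  obtain ⟨g, hg⟩ := (hf.bijective_of_nat_card_le (hker.le.trans hP2)).2 ⟨y, hyD⟩
  have hgy : (g : A).1 e1 = e1 * y := by
    rw [← show e1⁻¹ * (g : A).1 e1 = y from congrArg Subtype.val hg, mul_inv_cancel_left]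
  refine hmv g g.2 (fun h1 => hy1 ?_) ?_
  · rw [h1] at hgy
    exact mul_eq_left.1 hgy.symm
  · rw [hgy, map_mul, hse, disp_eq_one.1 (show disp s y = 1 from hys)]

/-- The torus attached to a transvection and a conjugate outside `M`. -/
theorem exists_torus_at (hc : ∀ x y : V, x * y = y * x) (hexp : ∀ x : V, x ^ p = 1)
    (hcard : Nat.card V = p ^ 3) (hTI : TIData p V A M) {τ : A} (hτM : τ ∈ M) (hτp : orderOf τ = p)
    (h2 : ∀ v, disp (τ : MulAut V) (disp (τ : MulAut V) v) = 1) {k : A} (hk : k ∉ M) :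
    ∃ e w e1 : V, e ≠ 1 ∧ (τ : MulAut V) e = e ∧ (τ : MulAut V) w = w ∧
      w ∉ Subgroup.zpowers e ∧ (τ : MulAut V) e1 = e1 * e ∧
      (∀ v, disp (τ : MulAut V) v ∈ Subgroup.zpowers e) ∧
      (k : MulAut V) e ∈ Subgroup.zpowers e1 ∧
      ∀ l : ZMod p, l ≠ 0 → ∃ δ : A, (δ : MulAut V) e = e ^ l.val ∧ (δ : MulAut V) w = w ∧
        (δ : MulAut V) e1 = e1 ^ (l⁻¹ : ZMod p).val ∧ δ * τ * δ⁻¹ = τ ^ (l * l).val := by
  have hp : p.Prime := Fact.out
  set t : MulAut V := (τ : MulAut V)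
  have ht1 : t ≠ 1 := fun h => by
    rw [show τ = 1 from Subtype.ext h, orderOf_one] at hτp
    exact hp.one_lt.ne hτp
  obtain ⟨e, he, hte, him, hker⟩ := transvection_data hc hexp hcard ht1 h2
  set D := dispHom hc t
  have hmv := moves_conj hc hexp hTI hτM hτp hte him hk
  have hmv' := moves_conj hc hexp hTI hτM hτp hte him (k := k⁻¹) (fun h => hk (by simpa using M.inv_mem h))
  set f1 := (k : MulAut V) e with hf1
  set σA : A := k * τ * k⁻¹
  set s : MulAut V := (σA : MulAut V)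
  have hsv : ∀ v, s v = (k : MulAut V) (t ((k : MulAut V)⁻¹ v)) := fun v => rfl
  -- scale the centre of the second transvection
  obtain ⟨a, ha⟩ : ∃ a : ZMod p, disp t f1 = e ^ a.val := by
    obtain ⟨i, hi⟩ := him f1
    refine ⟨(i : ZMod p), ?_⟩
    rw [← show e ^ i = disp t f1 from hi, ← zpow_natCast e, zpow_eq_zpow_iff_modEq,
      orderOf_eq_prime (hexp e) he, ← ZMod.intCast_eq_intCast_iff]
    simp
  have ha0 : a ≠ 0 := fun h0 => hmv (disp_eq_one.1 (by rw [ha, h0, ZMod.val_zero, pow_zero]))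
  set e1 := f1 ^ (a⁻¹ : ZMod p).val with he1
  have hte1 : t e1 = e1 * e := by
    rw [← mul_disp t e1]
    congr 1
    show D e1 = e
    rw [he1, map_pow, dispHom_apply, ha, ← pow_val_mul (hexp e), mul_inv_cancel₀ ha0]
    haveI : Fact (1 < p) := ⟨hp.one_lt⟩
    rw [ZMod.val_one, pow_one]
  have hse1 : s e1 = e1 := by
    rw [he1, map_pow, hsv, hf1, MulAut.inv_apply_self, hte]
  -- the displacement of `e` under the second transvection
  obtain ⟨b, hb⟩ : ∃ b : ZMod p, s e = e * e1 ^ b.val := by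
    obtain ⟨i, hi⟩ := him ((k : MulAut V)⁻¹ e)
    refine ⟨a * (i : ZMod p), ?_⟩
    rw [he1, ← pow_val_mul (hexp f1), ← mul_assoc, inv_mul_cancel₀ ha0, one_mul, hsv,
      ← mul_disp t, map_mul, MulAut.apply_inv_self]
    congr 1
    rw [← show e ^ i = _ from hi, map_zpow, ← hf1, ← zpow_natCast f1, zpow_eq_zpow_iff_modEq,
      orderOf_eq_prime (hexp f1) (fun h => he ((k : MulAut V).injective (h.trans (map_one _).symm))),
      ← ZMod.intCast_eq_intCast_iff]
    simp
  have hb0 : b ≠ 0 := fun h0 => by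
    rw [h0, ZMod.val_zero, pow_zero, mul_one, hsv] at hb
    refine hmv' ?_
    show t ((k : MulAut V)⁻¹ e) = (k : MulAut V)⁻¹ e
    have := congrArg (fun x => ((k : MulAut V)⁻¹ : MulAut V) x) hb
    simpa using this
  have hke : f1 ∈ Subgroup.zpowers e1 := by
    refine ⟨(a.val : ℤ), ?_⟩
    show e1 ^ (a.val : ℤ) = f1
    rw [zpow_natCast, he1, ← pow_val_mul (hexp f1), inv_mul_cancel₀ ha0]
    haveI : Fact (1 < p) := ⟨hp.one_lt⟩
    rw [ZMod.val_one, pow_one]
  clear_value e1
  -- the common fixed line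
  have hsker : p ^ 2 ≤ Nat.card (dispHom hc s).ker := by
    rw [← hker]
    refine Nat.card_le_card_of_injective (fun x : D.ker => ⟨(k : MulAut V) x, ?_⟩) fun x y hxy =>
      Subtype.ext ((k : MulAut V).injective (congrArg Subtype.val hxy))
    rw [MonoidHom.mem_ker]
    refine disp_eq_one.2 ?_
    rw [hsv, MulAut.inv_apply_self, disp_eq_one.1 (show disp t x = 1 from x.2)]
  obtain ⟨w, hwt', hws', hw1⟩ := exists_ne_one_inf hcard hker.ge hsker
  have hwt : t w = w := disp_eq_one.1 hwt'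
  have hws : s w = w := disp_eq_one.1 hws'
  have horde : orderOf e = p := orderOf_eq_prime (hexp e) he
  have hwe : w ∉ Subgroup.zpowers e := fun hwz => by
    have hzz : Subgroup.zpowers w = Subgroup.zpowers e := Subgroup.eq_of_le_of_card_ge
      (Subgroup.zpowers_le.2 hwz)
      (by rw [Nat.card_zpowers, Nat.card_zpowers, horde, orderOf_eq_prime (hexp w) hw1])
    obtain ⟨i, hi⟩ : e ∈ Subgroup.zpowers w := hzz ▸ Subgroup.mem_zpowers e
    have hsee : s e = e := by
      rw [← show w ^ i = e from hi, map_zpow, hws]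
    refine hmv' ?_
    show t ((k : MulAut V)⁻¹ e) = (k : MulAut V)⁻¹ e
    rw [hsv] at hsee
    have := congrArg (fun x => ((k : MulAut V)⁻¹ : MulAut V) x) hsee
    simpa using this
  refine ⟨e, w, e1, he, hte, hwt, hwe, hte1, him, hke, fun l hl => ?_⟩
  -- powers of the two transvections
  have htp : ∀ c : ZMod p, (t ^ c.val) e1 = e1 * e ^ c.val := fun c => by
    have hd : disp t e1 = e := by rw [disp, hte1, inv_mul_cancel_left]
    rw [pow_apply_of_fixed (by rw [hd, hte]), hd]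
  have hsp : ∀ c : ZMod p, (s ^ c.val) e = e * e1 ^ (b * c).val := fun c => by
    have hd : disp s e = e1 ^ b.val := by rw [disp, hb, inv_mul_cancel_left]
    rw [pow_apply_of_fixed (by rw [hd, map_pow, hse1]), hd, ← pow_val_mul (hexp e1)]
  let Wl : ZMod p → A := fun c => τ ^ c.val * σA ^ (-(b * c)⁻¹ : ZMod p).val * τ ^ c.val
  have hW : ∀ c : ZMod p, c ≠ 0 → (Wl c : MulAut V) e = e1 ^ (-c⁻¹ : ZMod p).val ∧
      (Wl c : MulAut V) e1 = e ^ c.val ∧ (Wl c : MulAut V) w = w := by
    intro c hc0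
    have hd : b * (-(b * c)⁻¹) = -c⁻¹ := by field_simp
    have hz : ∀ x : V, x ^ p = 1 := hexp
    refine ⟨?_, ?_, ?_⟩
    · show (t ^ c.val) ((s ^ _) ((t ^ c.val) e)) = _
      rw [pow_apply_eq_self hte, hsp, hd, map_mul, map_pow, pow_apply_eq_self hte, htp,
        (show Commute e1 (e ^ c.val) from hc _ _).mul_pow, ← pow_val_mul (hz e),
        show c * -c⁻¹ = (-1 : ZMod p) by field_simp, ← mul_assoc, hc e, mul_assoc]
      conv_rhs => rw [← mul_one (e1 ^ _)]
      congr 1
      nth_rewrite 1 [← pow_one e]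
      haveI : Fact (1 < p) := ⟨hp.one_lt⟩
      rw [← ZMod.val_one (n := p), ← pow_val_add (hz e), add_neg_cancel, ZMod.val_zero, pow_zero]
    · show (t ^ c.val) ((s ^ _) ((t ^ c.val) e1)) = _
      rw [htp, map_mul, map_pow, pow_apply_eq_self hse1, hsp, hd,
        (show Commute e (e1 ^ _) from hc _ _).mul_pow, ← pow_val_mul (hz e1),
        show -c⁻¹ * c = (-1 : ZMod p) by field_simp, map_mul, map_mul, map_pow, map_pow, htp,
        pow_apply_eq_self hte, (show Commute e1 (e ^ _) from hc _ _).mul_pow, ← pow_val_mul (hz e)]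
      haveI : Fact (1 < p) := ⟨hp.one_lt⟩
      have e0 : e1 * e1 ^ (-1 : ZMod p).val = 1 := by
        nth_rewrite 1 [← pow_one e1]
        rw [← ZMod.val_one (n := p), ← pow_val_add (hz e1), add_neg_cancel, ZMod.val_zero, pow_zero]
      have e0' : e ^ c.val * e ^ (c * -1 : ZMod p).val = 1 := by
        rw [← pow_val_add (hz e), mul_neg, mul_one, add_neg_cancel, ZMod.val_zero, pow_zero]
      calc e1 * e ^ c.val * (e ^ c.val * (e1 ^ (-1 : ZMod p).val * e ^ (c * -1 : ZMod p).val))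
          = e1 * e ^ c.val * (e1 ^ (-1 : ZMod p).val * (e ^ c.val * e ^ (c * -1 : ZMod p).val)) := by
            rw [← mul_assoc (e ^ c.val), hc (e ^ c.val), mul_assoc (e1 ^ _)]
        _ = e ^ c.val := by
            rw [e0', mul_one, hc e1, mul_assoc, e0, mul_one]
    · show (t ^ c.val) ((s ^ _) ((t ^ c.val) w)) = _
      rw [pow_apply_eq_self hwt, pow_apply_eq_self hws, pow_apply_eq_self hwt]
  refine ⟨Wl l * Wl (-1), ?_, ?_, ?_, ?_⟩
  · show (Wl l : MulAut V) ((Wl (-1) : MulAut V) e) = _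
    rw [(hW _ (neg_ne_zero.2 one_ne_zero)).1, map_pow, (hW l hl).2.1, ← pow_val_mul (hexp e)]
    congr 2
    field_simp
  · show (Wl l : MulAut V) ((Wl (-1) : MulAut V) w) = _
    rw [(hW _ (neg_ne_zero.2 one_ne_zero)).2.2, (hW l hl).2.2]
  · show (Wl l : MulAut V) ((Wl (-1) : MulAut V) e1) = _
    rw [(hW _ (neg_ne_zero.2 one_ne_zero)).2.1, map_pow, (hW l hl).1, ← pow_val_mul (hexp e1)]
    congr 2
    field_simp
  · have hδe : (Wl l * Wl (-1) : A).1 e = e ^ l.val := by
      show (Wl l : MulAut V) ((Wl (-1) : MulAut V) e) = _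
      rw [(hW _ (neg_ne_zero.2 one_ne_zero)).1, map_pow, (hW l hl).2.1, ← pow_val_mul (hexp e)]
      congr 2
      field_simp
    have hδw : (Wl l * Wl (-1) : A).1 w = w := by
      show (Wl l : MulAut V) ((Wl (-1) : MulAut V) w) = _
      rw [(hW _ (neg_ne_zero.2 one_ne_zero)).2.2, (hW l hl).2.2]
    have hδe1 : (Wl l * Wl (-1) : A).1 e1 = e1 ^ (l⁻¹ : ZMod p).val := by
      show (Wl l : MulAut V) ((Wl (-1) : MulAut V) e1) = _
      rw [(hW _ (neg_ne_zero.2 one_ne_zero)).2.1, map_pow, (hW l hl).1, ← pow_val_mul (hexp e1)]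
      congr 2
      field_simp
    set d : MulAut V := (Wl l * Wl (-1) : A).1
    rw [mul_inv_eq_iff_eq_mul]
    refine Subtype.ext (MulEquiv.ext fun v => ?_)
    show d (t v) = (t ^ (l * l).val) (d v)
    set L := MonoidHom.eqLocus ((d * t : MulAut V) : V →* V) ((t ^ (l * l).val * d : MulAut V) : V →* V)
    have hLe : e ∈ L := by
      show d (t e) = (t ^ (l * l).val) (d e)
      rw [hte, hδe, map_pow, pow_apply_eq_self hte]
    have hLw : w ∈ L := by
      show d (t w) = (t ^ (l * l).val) (d w)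
      rw [hwt, hδw, pow_apply_eq_self hwt]
    have hLe1 : e1 ∈ L := by
      show d (t e1) = (t ^ (l * l).val) (d e1)
      rw [hte1, map_mul, hδe, hδe1, map_pow, htp, (show Commute e1 (e ^ _) from hc _ _).mul_pow,
        ← pow_val_mul (hexp e)]
      congr 2
      field_simp
    have htop : L = ⊤ := by
      set K := Subgroup.zpowers e ⊔ Subgroup.zpowers w
      have hK : K ≤ D.ker := sup_le (Subgroup.zpowers_le.2 (disp_eq_one.2 hte))
        (Subgroup.zpowers_le.2 (disp_eq_one.2 hwt))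
      have he1K : e1 ∉ K := fun h => he (by
        have h' : disp t e1 = 1 := hK h
        rwa [disp, hte1, inv_mul_cancel_left] at h')
      have l1 : Subgroup.zpowers e < K := lt_of_le_of_ne le_sup_left fun h =>
        hwe (h.ge (Subgroup.mem_sup_right (Subgroup.mem_zpowers w)))
      have l2 : K < L := lt_of_le_of_ne (sup_le (Subgroup.zpowers_le.2 hLe) (Subgroup.zpowers_le.2 hLw))
        fun h => he1K (h.ge hLe1)
      have i0 := Subgroup.index_strictAnti (bot_lt_iff_ne_bot.2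
        (by rwa [Ne, Subgroup.zpowers_eq_bot]) : (⊥ : Subgroup V) < Subgroup.zpowers e)
      have i1 := Subgroup.index_strictAnti l1
      have i2 := Subgroup.index_strictAnti l2
      obtain ⟨i, -, hi⟩ := (Nat.dvd_prime_pow hp).1 (hcard ▸ (Subgroup.zpowers e).index_dvd_card)
      obtain ⟨j, -, hj⟩ := (Nat.dvd_prime_pow hp).1 (hcard ▸ K.index_dvd_card)
      obtain ⟨m, -, hm⟩ := (Nat.dvd_prime_pow hp).1 (hcard ▸ L.index_dvd_card)
      rw [Subgroup.index_bot, hcard, hi, Nat.pow_lt_pow_iff_right hp.one_lt] at i0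
      rw [hi, hj, Nat.pow_lt_pow_iff_right hp.one_lt] at i1
      rw [hj, hm, Nat.pow_lt_pow_iff_right hp.one_lt] at i2
      exact Subgroup.index_eq_one.1 (by rw [hm, show m = 0 by omega, pow_zero])
    have hv : v ∈ L := htop ▸ Subgroup.mem_top v
    exact hv

/-- The torus attached to a transvection. -/
theorem exists_torus (hc : ∀ x y : V, x * y = y * x) (hexp : ∀ x : V, x ^ p = 1)
    (hcard : Nat.card V = p ^ 3) (hTI : TIData p V A M) {τ : A} (hτM : τ ∈ M) (hτp : orderOf τ = p)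
    (h2 : ∀ v, disp (τ : MulAut V) (disp (τ : MulAut V) v) = 1) :
    ∃ e w e1 : V, e ≠ 1 ∧ (τ : MulAut V) e = e ∧ (τ : MulAut V) w = w ∧
      w ∉ Subgroup.zpowers e ∧ (τ : MulAut V) e1 = e1 * e ∧
      ∀ l : ZMod p, l ≠ 0 → ∃ δ : A, (δ : MulAut V) e = e ^ l.val ∧ (δ : MulAut V) w = w ∧
        (δ : MulAut V) e1 = e1 ^ (l⁻¹ : ZMod p).val ∧ δ * τ * δ⁻¹ = τ ^ (l * l).val := by
  obtain ⟨k, hk⟩ : ∃ k, k ∉ M := by
    by_contra hall
    push Not at hall
    exact hTI.ne_top ((Subgroup.eq_top_iff' M).2 hall)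
  obtain ⟨e, w, e1, h1, h2', h3, h4, h5, -, -, h6⟩ :=
    exists_torus_at hc hexp hcard hTI hτM hτp h2 hk
  exact ⟨e, w, e1, h1, h2', h3, h4, h5, h6⟩

end CfsgLib.Fus.EssentialElemCube
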